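import Groth.Agent.Lib.QuadGrp99.Cliff.Odd.Pairs
import Groth.Agent.Lib.QuadGrp99.Cliff.Local
import Mathlib.LinearAlgebra.CliffordAlgebra.Star

/-!
# The structure of the Clifford algebra in odd rank, and generation by reflections
-/

open CliffordAlgebra

universe u v

namespace Groth.Agent.Lib.QuadGrp99.Cliff.Odd

open Groth.Agent.Lib.QuadGrp99.Cliff

section Star

variable {A : Type u} [CommRing A] {V : Type v} [AddCommGroup V] [Module A V] {q : QuadraticForm A V}

theorem star_plane {k : ℕ} (P : Pairs q k) (i : Fin k) : star (1 - 2 * P.plane i) = -(1 - 2 * P.plane i) := by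
  have hfe : ι q (P.f i) * ι q (P.e i) = 1 - P.plane i :=
    eq_sub_of_add_eq' (by rw [Pairs.plane, ι_mul_ι_add_swap, P.pol, map_one])
  have h : star (P.plane i) = 1 - P.plane i := by
    rw [Pairs.plane, star_mul, star_ι, star_ι, neg_mul_neg, hfe, Pairs.plane]
  rw [star_sub, star_one, star_mul, star_ofNat, h]
  noncomm_ring

theorem star_zel {k : ℕ} (P : Pairs q k) :
    ∀ n ≤ k, star (1 - 2 * P.zel n) = (-1 : A) ^ n • (1 - 2 * P.zel n)
  | 0, _ => by simp [Pairs.zel]
  | n + 1, h => by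
    set i0 : Fin k := ⟨n, h⟩ with hi0
    have hd : P.zel (n + 1) = P.zel n + P.plane i0 - 2 * (P.zel n * P.plane i0) := by
      rw [Pairs.zel, dif_pos (show n < k from h)]
    have hz3 := (P.zel_props n (Nat.le_of_succ_le h)).2.2.1
    have hp := P.perp_of_ge (n := n) i0 le_rfl
    have hcom : P.zel n * P.plane i0 = P.plane i0 * P.zel n := by
      rw [Pairs.plane, ← mul_assoc, hz3 _ hp.1, mul_assoc, hz3 _ hp.2, ← mul_assoc]
    rw [hd, show (1 - 2 * (P.zel n + P.plane i0 - 2 * (P.zel n * P.plane i0)) : CliffordAlgebra q) =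
        (1 - 2 * P.zel n) * (1 - 2 * P.plane i0) by noncomm_ring, star_mul, star_plane,
      star_zel P n (Nat.le_of_succ_le h), neg_mul, mul_smul_comm, ← smul_neg, pow_succ, mul_smul, neg_one_smul]
    have e : (1 - 2 * P.plane i0) * (1 - 2 * P.zel n) =
        1 - 2 * P.plane i0 - 2 * P.zel n + 4 * (P.plane i0 * P.zel n) := by noncomm_ring
    rw [e, ← hcom]
    congr 2
    noncomm_ring

theorem commute_all (x : CliffordAlgebra q) (h : ∀ v, ι q v * x = x * ι q v) (y : CliffordAlgebra q) :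
    y * x = x * y := by
  induction y using CliffordAlgebra.left_induction with
  | algebraMap r => exact Algebra.commutes r x
  | add a b ha hb => rw [mul_add, add_mul, ha, hb]
  | ι_mul a v ha => rw [mul_assoc, ha, ← mul_assoc, h, mul_assoc]

theorem map_mem_evenOdd {W : Type*} [AddCommGroup W] [Module A W] {q' : QuadraticForm A W} (f : q →qᵢ q')
    (i : ZMod 2) (x : CliffordAlgebra q) (hx : x ∈ evenOdd q i) : CliffordAlgebra.map f x ∈ evenOdd q' i := by
  induction x, hx using CliffordAlgebra.evenOdd_induction with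
  | range_ι_pow v h =>
    rcases (show ∀ j : ZMod 2, j = 0 ∨ j = 1 by decide) i with rfl | rfl
    · obtain ⟨r, rfl⟩ := Submodule.mem_one.mp h
      rw [AlgHom.commutes]
      exact SetLike.algebraMap_mem_graded _ _
    · rw [ZMod.val_one, pow_one] at h
      obtain ⟨m, rfl⟩ := h
      rw [map_apply_ι]; exact ι_mem_evenOdd_one _ _
  | add a b _ _ ha hb => rw [map_add]; exact add_mem ha hb
  | ι_mul_ι_mul m1 m2 y _ hy =>
    rw [map_mul, map_mul, map_apply_ι, map_apply_ι, ← zero_add i]
    exact SetLike.mul_mem_graded (ι_mul_ι_mem_evenOdd_zero _ _ _) hy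

theorem map_star {W : Type*} [AddCommGroup W] [Module A W] {q' : QuadraticForm A W} (f : q →qᵢ q')
    (x : CliffordAlgebra q) : star (CliffordAlgebra.map f x) = CliffordAlgebra.map f (star x) := by
  induction x using CliffordAlgebra.left_induction with
  | algebraMap r => simp only [AlgHom.commutes, CliffordAlgebra.star_algebraMap]
  | add a b ha hb => simp only [map_add, star_add, ha, hb]
  | ι_mul a v ha => simp only [map_mul, map_apply_ι, star_mul, star_ι, map_neg, ha]

end Star

variable {A : Type u} [CommRing A] [IsLocalRing A] {V : Type v} [AddCommGroup V] [Module A V] [Module.Free A V]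
  [Module.Finite A V] {q : QuadraticForm A V}

/-- `m` planes and a vector of unit length, spanning. -/
structure Frame (q : QuadraticForm A V) (m : ℕ) where
  P : Pairs q m
  e : V
  c : Aˣ
  qe : q e = c
  perp : P.Perp m e
  mu : V →ₗ[A] A
  mue : mu e = 1
  muc : ∀ x, mu (P.comb x) = 0
  rest : ∀ v, P.rest v = mu v • e

theorem exists_frame (hA : InfRes A) (hq : Adm q) (m : ℕ) (hV : Module.finrank A V = 2 * m + 1) :
    Nonempty (Frame q m) := by
  obtain ⟨P⟩ := exists_pairs hA hq m hV m le_rfl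
  obtain ⟨e, he, hqe⟩ := exists_unit_vector P hq m hV le_rfl
  obtain ⟨mu, h1, h2, h3⟩ := decomp P hV e he hqe
  obtain ⟨c, hc⟩ := hqe
  exact ⟨⟨P, e, c, hc.symm, he, mu, h1, h2, h3⟩⟩

variable {m : ℕ} (F : Frame q m)

/-- The form on the span of the planes. -/
noncomputable abbrev Frame.qN : QuadraticForm A (Fin m → A × A) := q.comp F.P.comb

/-- The inclusion. -/
noncomputable def Frame.inc0 : F.qN →qᵢ q := ⟨F.P.comb, fun _ => rfl⟩

/-- The inclusion of Clifford algebras. -/
noncomputable def Frame.inc : CliffordAlgebra F.qN →ₐ[A] CliffordAlgebra q := CliffordAlgebra.map F.inc0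

theorem Frame.inc_ι (x : Fin m → A × A) : F.inc (ι F.qN x) = ι q (F.P.comb x) := map_apply_ι _ _

theorem Frame.coef_e : F.P.coef F.e = 0 := by
  funext j
  rw [F.P.coef_apply, (F.perp j j.isLt).1, (F.perp j j.isLt).2]; simp

theorem Frame.decompose (v : V) : v = F.P.comb (F.P.coef v) + F.mu v • F.e := by
  have := F.rest v
  simp only [Pairs.rest, LinearMap.sub_apply, LinearMap.id_apply, LinearMap.comp_apply] at this
  rw [← this]; abel

theorem Frame.polar_e (x : Fin m → A × A) : QuadraticMap.polar q F.e (F.P.comb x) = 0 := by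
  simp only [← QuadraticMap.polarBilin_apply_apply, F.P.comb_apply, map_add, map_sum, map_smul, smul_eq_mul]
  simp only [QuadraticMap.polarBilin_apply_apply]
  rw [Finset.sum_eq_zero fun i _ => by rw [QuadraticMap.polar_comm, (F.perp i i.isLt).1, mul_zero],
    Finset.sum_eq_zero fun i _ => by rw [QuadraticMap.polar_comm, (F.perp i i.isLt).2, mul_zero], add_zero]

theorem Frame.q_decompose (v : V) : q v = F.qN (F.P.coef v) + F.mu v * F.mu v * F.c := by
  conv_lhs => rw [F.decompose v, QuadraticMap.map_add q, QuadraticMap.map_smul, QuadraticMap.polar_smul_right,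
    QuadraticMap.polar_comm, F.polar_e, smul_zero, add_zero, F.qe]
  rfl

theorem Frame.comb_single (i : Fin m) (a b : A) :
    F.P.comb (Pi.single i (a, b)) = a • F.P.e i + b • F.P.f i := by
  rw [F.P.comb_apply, Finset.sum_eq_single i (fun j _ h => by simp [Pi.single_eq_of_ne h]) (by simp),
    Finset.sum_eq_single i (fun j _ h => by simp [Pi.single_eq_of_ne h]) (by simp), Pi.single_eq_same]

theorem Frame.polar_qN (x y : Fin m → A × A) :
    QuadraticMap.polar F.qN x y = QuadraticMap.polar q (F.P.comb x) (F.P.comb y) := by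
  simp [QuadraticMap.polar, map_add]

theorem Frame.regular : QuadGrp.IsRegular F.qN := by
  classical
  have hsurj : Function.Surjective (QuadraticMap.polarBilin F.qN) := by
    intro f
    let Be : Fin m → A := fun i => f (Pi.single i (1, 0))
    let Bf : Fin m → A := fun i => f (Pi.single i (0, 1))
    refine ⟨fun i => ((↑(F.P.d i)⁻¹ : A) * (2 * q (F.P.f i) * Be i - Bf i),
      (↑(F.P.d i)⁻¹ : A) * (2 * q (F.P.e i) * Bf i - Be i)), LinearMap.pi_ext fun i p => ?_⟩
    obtain ⟨a, b⟩ := p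
    set x : Fin m → A × A := fun i => ((↑(F.P.d i)⁻¹ : A) * (2 * q (F.P.f i) * Be i - Bf i),
      (↑(F.P.d i)⁻¹ : A) * (2 * q (F.P.e i) * Bf i - Be i))
    have hab : (Pi.single i (a, b) : Fin m → A × A) =
        a • (Pi.single i (1, 0) : Fin m → A × A) + b • (Pi.single i (0, 1) : Fin m → A × A) := by
      funext j
      rcases eq_or_ne j i with rfl | h <;> simp_all
    have hf : f (Pi.single i (a, b)) = a * Be i + b * Bf i := by
      rw [hab, map_add, map_smul, map_smul, smul_eq_mul, smul_eq_mul]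
    have hd := F.P.disc i
    have hu : (↑(F.P.d i)⁻¹ : A) * ↑(F.P.d i) = 1 := (F.P.d i).inv_mul
    rw [QuadraticMap.polarBilin_apply_apply, hf, F.polar_qN, F.comb_single, QuadraticMap.polar_add_right,
      QuadraticMap.polar_smul_right, QuadraticMap.polar_smul_right, QuadraticMap.polar_comm q _ (F.P.e i),
      QuadraticMap.polar_comm q _ (F.P.f i), (F.P.polar_comb x i).1, (F.P.polar_comb x i).2, smul_eq_mul, smul_eq_mul]
    simp only [x]
    linear_combination (a * Be i + b * Bf i) * hu + (a * Be i + b * Bf i) * (↑(F.P.d i)⁻¹ : A) * hd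
  refine ⟨?_, hsurj⟩
  let e : Module.Dual A (Fin m → A × A) ≃ₗ[A] (Fin m → A × A) := (finBasis' A (Fin m → A × A)).toDualEquiv.symm
  have := OrzechProperty.injective_of_surjective_endomorphism (R := A)
    (e.toLinearMap.comp (QuadraticMap.polarBilin F.qN)) (e.surjective.comp hsurj)
  exact fun x y h => this (by simp [h])

/-- The standard planes. -/
noncomputable def Frame.PN : Pairs F.qN m where
  e i := Pi.single i (1, 0)
  f i := Pi.single i (0, 1)
  c := F.P.c
  d := F.P.d
  qe i := by rw [QuadraticMap.comp_apply, F.comb_single]; simp [F.P.qe]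
  pol i := by rw [F.polar_qN, F.comb_single, F.comb_single]; simp [F.P.pol]
  disc i := by rw [QuadraticMap.comp_apply, QuadraticMap.comp_apply, F.comb_single, F.comb_single]; simp [F.P.disc]
  ee i j h := by rw [F.polar_qN, F.comb_single, F.comb_single]; simp [F.P.ee i j h]
  ef i j h := by rw [F.polar_qN, F.comb_single, F.comb_single]; simp [F.P.ef i j h]
  ff i j h := by rw [F.polar_qN, F.comb_single, F.comb_single]; simp [F.P.ff i j h]

theorem Frame.isSplit : IsSplit F.qN (F.PN.zel m) := by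
  classical
  obtain ⟨z1, z2, -, z4⟩ := F.PN.zel_props m le_rfl
  refine ⟨z1, fun v => ?_, z2⟩
  have hv : v = ∑ i, (v i).1 • F.PN.e i + ∑ i, (v i).2 • F.PN.f i := by
    funext j
    simp only [Frame.PN, Pi.add_apply, Finset.sum_apply, Pi.smul_apply]
    rw [Finset.sum_eq_single j (fun i _ h => by simp [Pi.single_eq_of_ne h.symm]) (by simp),
      Finset.sum_eq_single j (fun i _ h => by simp [Pi.single_eq_of_ne h.symm]) (by simp)]
    simp
  rw [hv, map_add, map_sum, map_sum, mul_add, add_mul, Finset.mul_sum, Finset.mul_sum, Finset.sum_mul,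
    Finset.sum_mul]
  simp only [map_smul, mul_smul_comm, smul_mul_assoc, fun i : Fin m => (z4 i i.isLt).1,
    fun i : Fin m => (z4 i i.isLt).2]

theorem Frame.e_swap (a : CliffordAlgebra F.qN) : ι q F.e * F.inc a = F.inc (involute a) * ι q F.e := by
  induction a using CliffordAlgebra.left_induction with
  | algebraMap r => rw [AlgHom.commutes, AlgHom.commutes, AlgHom.commutes, Algebra.commutes]
  | add a b ha hb => rw [map_add, mul_add, ha, hb, map_add, map_add, add_mul]
  | ι_mul a x ha =>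
    rw [map_mul, F.inc_ι, ← mul_assoc, anticomm (F.polar_e x), neg_mul, mul_assoc, ha, ← mul_assoc, ← neg_mul,
      map_mul, involute_ι, map_mul, map_neg, F.inc_ι, neg_mul (ι q _)]

/-- The action on pairs. -/
noncomputable def Frame.rhoMap :
    V →ₗ[A] Module.End A (CliffordAlgebra F.qN × CliffordAlgebra F.qN) where
  toFun v := ((LinearMap.mulLeft A (ι F.qN (F.P.coef v))).comp (LinearMap.fst A _ _) +
      (F.mu v * F.c) • LinearMap.snd A _ _).prod
    (F.mu v • LinearMap.fst A _ _ - (LinearMap.mulLeft A (ι F.qN (F.P.coef v))).comp (LinearMap.snd A _ _))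
  map_add' v w := by
    refine LinearMap.ext fun p => Prod.ext ?_ ?_ <;>
      simp [add_mul, add_smul] <;> abel
  map_smul' r v := by
    refine LinearMap.ext fun p => Prod.ext ?_ ?_ <;>
      simp [smul_add, smul_sub, smul_smul, mul_assoc]

theorem Frame.rho_sq (v : V) : F.rhoMap v * F.rhoMap v = algebraMap A _ (q v) := by
  refine LinearMap.ext fun p => Prod.ext ?_ ?_ <;>
    simp [Frame.rhoMap, F.q_decompose v, Module.algebraMap_end_apply, mul_add, mul_sub, ← mul_assoc,
      ι_sq_scalar, ← Algebra.smul_def, add_smul, smul_add, smul_sub, smul_smul] <;>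
    module

/-- The representation on pairs. -/
noncomputable def Frame.rho : CliffordAlgebra q →ₐ[A] Module.End A (CliffordAlgebra F.qN × CliffordAlgebra F.qN) :=
  CliffordAlgebra.lift q ⟨F.rhoMap, F.rho_sq⟩

theorem Frame.rho_inc (a b : CliffordAlgebra F.qN) :
    F.rho (F.inc a + ι q F.e * F.inc b) (1, 0) = (a, b) := by
  have h1 : ∀ a, F.rho (F.inc a) (1, 0) = (a, 0) := fun a => by
    induction a using CliffordAlgebra.left_induction with
    | algebraMap r =>
      rw [AlgHom.commutes, AlgHom.commutes, Module.algebraMap_end_apply, Prod.smul_mk, smul_zero,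
        ← Algebra.algebraMap_eq_smul_one]
    | add x y hx hy => rw [map_add, map_add, LinearMap.add_apply, hx, hy, Prod.mk_add_mk, add_zero]
    | ι_mul y x hy =>
      rw [map_mul, map_mul, Module.End.mul_apply, hy, F.inc_ι, Frame.rho, lift_ι_apply]
      simp [Frame.rhoMap, F.P.coef_comb, F.muc]
  rw [map_add, map_mul, LinearMap.add_apply, Module.End.mul_apply, h1, h1, Frame.rho, lift_ι_apply]
  simp [Frame.rhoMap, F.coef_e, F.mue]

theorem Frame.unique {a b : CliffordAlgebra F.qN} (h : F.inc a + ι q F.e * F.inc b = 0) : a = 0 ∧ b = 0 := by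
  have := F.rho_inc a b
  rw [h, map_zero, LinearMap.zero_apply] at this
  exact ⟨(congrArg Prod.fst this).symm, (congrArg Prod.snd this).symm⟩

theorem Frame.exists_decomp (x : CliffordAlgebra q) : ∃ a b, x = F.inc a + ι q F.e * F.inc b := by
  induction x using CliffordAlgebra.left_induction with
  | algebraMap r => exact ⟨algebraMap A _ r, 0, by simp⟩
  | add x y hx hy =>
    obtain ⟨a, b, rfl⟩ := hx; obtain ⟨a', b', rfl⟩ := hy
    exact ⟨a + a', b + b', by rw [map_add, map_add, mul_add]; abel⟩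
  | ι_mul x v hx =>
    obtain ⟨a, b, rfl⟩ := hx
    refine ⟨ι _ (F.P.coef v) * a + (F.mu v * F.c) • b, F.mu v • a - ι _ (F.P.coef v) * b, ?_⟩
    conv_lhs => rw [F.decompose v]
    have h : ι q (F.P.comb (F.P.coef v)) * ι q F.e = -(ι q F.e * ι q (F.P.comb (F.P.coef v))) :=
      anticomm (by rw [QuadraticMap.polar_comm]; exact F.polar_e _)
    simp only [map_add, map_sub, map_smul, map_mul, F.inc_ι, add_mul, mul_add, mul_sub, smul_mul_assoc,
      mul_smul_comm, ← mul_assoc, h, neg_mul, ι_sq_scalar, F.qe, ← Algebra.smul_def, smul_smul]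
    abel

/-- The odd central element. -/
noncomputable def Frame.zeta : CliffordAlgebra q := ι q F.e * F.inc (1 - 2 * F.PN.zel m)

theorem Frame.w_even : (1 - 2 * F.PN.zel m) ∈ evenOdd F.qN 0 := by
  rw [two_mul]
  exact sub_mem (SetLike.one_mem_graded _) (add_mem F.isSplit.even F.isSplit.even)

theorem Frame.e_commute_w : ι q F.e * F.inc (1 - 2 * F.PN.zel m) = F.inc (1 - 2 * F.PN.zel m) * ι q F.e := by
  rw [F.e_swap, involute_eq_of_mem_even F.w_even]

theorem Frame.zeta_odd : F.zeta ∈ evenOdd q 1 :=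
  mul_mem_even_odd q (by decide) (ι_mem_evenOdd_one q _) (map_mem_evenOdd _ 0 _ F.w_even)

theorem Frame.zeta_central (v : V) : ι q v * F.zeta = F.zeta * ι q v := by
  have hn : ∀ x, ι q (F.P.comb x) * F.zeta = F.zeta * ι q (F.P.comb x) := fun x => by
    rw [Frame.zeta, ← mul_assoc, anticomm (show QuadraticMap.polar q (F.P.comb x) F.e = 0 by
      rw [QuadraticMap.polar_comm]; exact F.polar_e _), neg_mul, mul_assoc, mul_assoc, ← F.inc_ι, ← map_mul,
      ← map_mul, F.isSplit.flip x, map_neg, mul_neg]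
  have he : ι q F.e * F.zeta = F.zeta * ι q F.e := by
    rw [Frame.zeta, mul_assoc, ← F.e_commute_w]
  rw [F.decompose v, map_add, map_smul, add_mul, mul_add, hn, smul_mul_assoc, mul_smul_comm, he]

include F in
theorem Frame.even_scalar (x : CliffordAlgebra q) (hx : x ∈ evenOdd q 0) (h : ∀ v, ι q v * x = x * ι q v) :
    x ∈ Set.range (algebraMap A (CliffordAlgebra q)) := by
  obtain ⟨a, b, rfl⟩ := F.exists_decomp x
  obtain ⟨a0, ha0, a1, ha1, rfl⟩ := split_parity F.qN a
  obtain ⟨b0, hb0, b1, hb1, rfl⟩ := split_parity F.qN b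
  have hodd : F.inc a1 + ι q F.e * F.inc b0 = 0 := by
    refine Submodule.disjoint_def.mp (evenOdd_isCompl q).disjoint _ ?_
      (add_mem (map_mem_evenOdd _ 1 _ ha1)
        (mul_mem_even_odd q (by decide) (ι_mem_evenOdd_one q _) (map_mem_evenOdd _ 0 _ hb0)))
    have h2 : F.inc a0 + ι q F.e * F.inc b1 ∈ evenOdd q 0 :=
      add_mem (map_mem_evenOdd _ 0 _ ha0)
        (mul_mem_even_odd q (by decide) (ι_mem_evenOdd_one q _) (map_mem_evenOdd _ 1 _ hb1))
    convert sub_mem hx h2 using 1
    rw [map_add, map_add, mul_add]; abel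
  obtain ⟨rfl, rfl⟩ := F.unique hodd
  simp only [add_zero, zero_add] at h ⊢
  have key : ∀ y, ι F.qN y * a0 - a0 * ι F.qN y = 0 ∧ -(ι F.qN y * b1) - b1 * ι F.qN y = 0 := fun y => by
    refine F.unique ?_
    have h' := sub_eq_zero.mpr (h (F.P.comb y))
    have hc : ι q (F.P.comb y) * ι q F.e = -(ι q F.e * ι q (F.P.comb y)) :=
      anticomm (by rw [QuadraticMap.polar_comm]; exact F.polar_e _)
    rw [← h']
    simp only [map_sub, map_neg, map_mul, F.inc_ι, mul_sub, mul_add, add_mul, mul_neg, ← mul_assoc, hc, neg_mul]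
    abel
  have hb : b1 = 0 := odd_anticentral F.regular b1 hb1 fun y => by
    have := (key y).2
    rw [sub_eq_zero] at this
    rw [← this, neg_neg]
  obtain ⟨r, hr⟩ := even_central F.regular a0 ha0 fun y => sub_eq_zero.mp (key y).1
  exact ⟨r, by rw [hb, map_zero, mul_zero, add_zero, ← hr, AlgHom.commutes]⟩

theorem Frame.zeta_sq : ∃ d : Aˣ, F.zeta * F.zeta = algebraMap A _ (d : A) := by
  have hw := F.isSplit.unit.map F.inc
  have hd := F.even_scalar (F.zeta * F.zeta) (mul_mem_even_odd q (by decide) F.zeta_odd F.zeta_odd) fun v => by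
    rw [← mul_assoc, F.zeta_central, mul_assoc, F.zeta_central, ← mul_assoc]
  obtain ⟨d, hd⟩ := hd
  have hu : IsUnit (F.zeta * F.zeta) := by
    have he : IsUnit (ι q F.e) := ⟨⟨_, _, (ι_mul_inv F.e F.c F.qe).1, (ι_mul_inv F.e F.c F.qe).2⟩, rfl⟩
    exact (he.mul hw).mul (he.mul hw)
  rw [← hd, Algebra.algebraMap_eq_smul_one] at hu
  obtain ⟨du, hdu⟩ := isUnit_of_smul_isUnit _ d _ hu
  exact ⟨du, by rw [hdu, hd]⟩

theorem Frame.star_zeta : star F.zeta = (-1 : A) ^ (m + 1) • F.zeta := by
  rw [Frame.zeta, star_mul, star_ι, Frame.inc, map_star, star_zel F.PN m le_rfl, map_smul, smul_mul_assoc, mul_neg,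
    ← Frame.inc, ← F.e_commute_w, pow_succ, mul_neg_one, neg_smul, smul_neg]

theorem Frame.odd_central (x : CliffordAlgebra q) (hx : x ∈ evenOdd q 1) (h : ∀ v, ι q v * x = x * ι q v) :
    ∃ r : A, x = r • F.zeta := by
  obtain ⟨d, hd⟩ := F.zeta_sq
  obtain ⟨r, hr⟩ := F.even_scalar (x * F.zeta) (mul_mem_even_odd q (by decide) hx F.zeta_odd) fun v => by
    rw [← mul_assoc, h, mul_assoc, F.zeta_central, ← mul_assoc]
  refine ⟨↑d⁻¹ * r, ?_⟩
  rw [mul_smul, Algebra.smul_def r, hr, mul_assoc, hd, Algebra.smul_def, ← Algebra.commutes (d : A) x, ← mul_assoc,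
    ← map_mul, d.inv_mul, map_one, one_mul]

theorem Frame.exists_normal (hA : InfRes A) (g : V ≃ₗ[A] V) (hg : g ∈ QuadGrp.O q) :
    ∃ (p : ℕ) (u : (CliffordAlgebra q)ˣ) (T : V ≃ₗ[A] V) (t : A),
      Lifted q T p u ∧ T ∈ QuadGrp.O q ∧ (∀ v, g v = T (v + (t - 1) • F.mu v • F.e)) ∧
      LinearMap.det g.toLinearMap = (-1) ^ p * t := by
  have hpol : ∀ (g : V ≃ₗ[A] V), g ∈ QuadGrp.O q → ∀ x y,
      QuadraticMap.polar q (g x) (g y) = QuadraticMap.polar q x y := fun g hg x y => by
    simp only [QuadraticMap.polar, ← map_add]; rw [hg, hg, hg]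
  suffices H : ∀ r ≤ m, ∀ g : V ≃ₗ[A] V, g ∈ QuadGrp.O q →
      (∀ i : Fin m, (i : ℕ) < m - r → g (F.P.e i) = F.P.e i ∧ g (F.P.f i) = F.P.f i) →
      ∃ (p : ℕ) (u : (CliffordAlgebra q)ˣ) (T : V ≃ₗ[A] V) (t : A),
        Lifted q T p u ∧ T ∈ QuadGrp.O q ∧ (∀ v, g v = T (v + (t - 1) • F.mu v • F.e)) by
    obtain ⟨p, u, T, t, h1, h2, h3⟩ := H m le_rfl g hg fun i hi => absurd hi (by omega)
    refine ⟨p, u, T, t, h1, h2, h3, ?_⟩
    have e : g.toLinearMap = T.toLinearMap ∘ₗ LinearMap.transvection ((t - 1) • F.mu) F.e := by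
      ext v
      simp [LinearMap.transvection.apply, h3 v, smul_smul]
    rw [e, LinearMap.det_comp, LinearMap.transvection.det, h1.det, LinearMap.smul_apply, F.mue, smul_eq_mul,
      mul_one, add_sub_cancel]
  intro r
  induction r with
  | zero =>
    intro _ g hg hfix
    refine ⟨0, 1, LinearEquiv.refl A V, F.mu (g F.e), lifted_one, fun _ => rfl, fun v => ?_⟩
    have hge : g F.e = F.mu (g F.e) • F.e := by
      have hco : F.P.coef (g F.e) = 0 := by
        funext j
        rw [F.P.coef_apply, show QuadraticMap.polar q (F.P.e j) (g F.e) = 0 by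
            rw [← (hfix j (by omega)).1, hpol g hg]; exact (F.perp j j.isLt).1,
          show QuadraticMap.polar q (F.P.f j) (g F.e) = 0 by
            rw [← (hfix j (by omega)).2, hpol g hg]; exact (F.perp j j.isLt).2]
        simp
      conv_lhs => rw [F.decompose (g F.e), hco, map_zero, zero_add]
    rw [LinearEquiv.refl_apply]
    conv_lhs => rw [F.decompose v, F.P.comb_apply, map_add, map_add, map_sum, map_sum, map_smul, hge]
    simp only [map_smul, fun i : Fin m => (hfix i (by omega)).1, fun i : Fin m => (hfix i (by omega)).2,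
      ← F.P.comb_apply]
    conv_rhs => arg 1; rw [F.decompose v]
    rw [smul_smul, smul_smul, sub_mul, one_mul, sub_smul, mul_comm]
    abel
  | succ r ih =>
    intro hr g hg hfix
    set j : Fin m := ⟨m - (r + 1), by omega⟩ with hj
    have hge := F.P.perp_of_ge (n := (j : ℕ)) j le_rfl
    have gperp : ∀ (g : V ≃ₗ[A] V), g ∈ QuadGrp.O q →
        (∀ i : Fin m, (i : ℕ) < j → g (F.P.e i) = F.P.e i ∧ g (F.P.f i) = F.P.f i) →
        ∀ x, F.P.Perp j x → F.P.Perp j (g x) := fun g hg hfix x hx i hi => by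
      refine ⟨?_, ?_⟩
      · rw [← (hfix i hi).1, hpol g hg]; exact (hx i hi).1
      · rw [← (hfix i hi).2, hpol g hg]; exact (hx i hi).2
    let K : V → Prop := fun x => ∃ i : Fin m, (i : ℕ) < j ∧ (x = F.P.e i ∨ x = F.P.f i)
    have hK : ∀ x, K x → ∀ w, F.P.Perp j w → QuadraticMap.polar q x w = 0 := by
      rintro x ⟨i, hi, rfl | rfl⟩ w hw
      exacts [(hw i hi).1, (hw i hi).2]
    have e1 := gperp g hg hfix _ hge.1
    obtain ⟨T, p, u, hT, hTO, hTv, hTK⟩ := move hA (F.P.perpSub j) K hK (F.P.e j) (g (F.P.e j))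
      (by rw [sub_eq_add_neg, ← neg_one_smul A (F.P.e j)]; exact F.P.perp_add e1 (F.P.perp_smul _ hge.1))
      (hg _) (F.P.f j) (g (F.P.f j)) (F.P.e j) hge.2 (gperp g hg hfix _ hge.2) hge.1
      (by rw [F.P.pol]; exact isUnit_one) (by rw [hpol g hg, F.P.pol]; exact isUnit_one) (F.P.qe j ▸ (F.P.c j).isUnit)
    set g' : V ≃ₗ[A] V := g.trans T.symm with hg'
    have hg'O : g' ∈ QuadGrp.O q := fun x => by
      rw [hg', LinearEquiv.trans_apply]
      conv_rhs => rw [← hg x, ← T.apply_symm_apply (g x), hTO]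
    have hfix' : ∀ i : Fin m, (i : ℕ) < j → g' (F.P.e i) = F.P.e i ∧ g' (F.P.f i) = F.P.f i := fun i hi => by
      simp only [hg', LinearEquiv.trans_apply, LinearEquiv.symm_apply_eq]
      exact ⟨by rw [(hfix i hi).1, hTK _ ⟨i, hi, Or.inl rfl⟩], by rw [(hfix i hi).2, hTK _ ⟨i, hi, Or.inr rfl⟩]⟩
    have hge' : g' (F.P.e j) = F.P.e j := by
      simp only [hg', LinearEquiv.trans_apply, LinearEquiv.symm_apply_eq, hTv]
    let a : V := F.P.e j + (-(2 * q (F.P.e j))) • F.P.f j
    have hap : F.P.Perp j a := F.P.perp_add hge.1 (F.P.perp_smul _ hge.2)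
    have hea : QuadraticMap.polar q (F.P.e j) a = 0 := by
      simp only [a, QuadraticMap.polar_add_right, QuadraticMap.polar_smul_right, F.P.pol, QuadraticMap.polar_self,
        smul_eq_mul, nsmul_eq_mul, Nat.cast_ofNat]
      ring
    have hfa : IsUnit (QuadraticMap.polar q (F.P.f j) a) := by
      have : QuadraticMap.polar q (F.P.f j) a = -(F.P.d j : A) := by
        simp only [a, QuadraticMap.polar_add_right, QuadraticMap.polar_smul_right, QuadraticMap.polar_self,
          QuadraticMap.polar_comm q (F.P.f j) (F.P.e j), F.P.pol, smul_eq_mul, nsmul_eq_mul, Nat.cast_ofNat,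
          ← F.P.disc j]
        ring
      rw [this]; exact (F.P.d j).isUnit.neg
    have hqa : IsUnit (q a) := by
      have : q a = (F.P.c j : A) * (F.P.d j : A) := by
        simp only [a]
        rw [QuadraticMap.map_add q, QuadraticMap.map_smul, QuadraticMap.polar_smul_right, F.P.pol, ← F.P.disc j,
          ← F.P.qe j, smul_eq_mul, smul_eq_mul]
        ring
      rw [this]; exact (F.P.c j).isUnit.mul (F.P.d j).isUnit
    let PF : V → Prop := fun x => K x ∨ x = F.P.e j
    have e2 := gperp g' hg'O hfix' _ hge.2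
    let W2 : Submodule A V := F.P.perpSub j ⊓ LinearMap.ker (q.polarBilin (F.P.e j))
    have hd2 : QuadraticMap.polar q (F.P.e j) (g' (F.P.f j) - F.P.f j) = 0 := by
      rw [QuadraticMap.polar_sub_right]
      conv_lhs => arg 1; rw [← hge', hpol g' hg'O]
      rw [sub_self]
    have hgaW : g' a ∈ W2 := ⟨gperp g' hg'O hfix' _ hap, by
      show QuadraticMap.polar q (F.P.e j) (g' a) = 0
      rw [← hge', hpol g' hg'O, hea]⟩
    obtain ⟨T2, p2, u2, hT2, hT2O, hT2v, hT2K⟩ := move hA W2 PF
      (fun x hx w hw => hx.elim (fun h => hK x h w hw.1) (fun h => h ▸ hw.2))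
      (F.P.f j) (g' (F.P.f j))
      ⟨by rw [sub_eq_add_neg, ← neg_one_smul A (F.P.f j)]; exact F.P.perp_add e2 (F.P.perp_smul _ hge.2), hd2⟩
      (hg'O _) a (g' a) a ⟨hap, hea⟩ hgaW ⟨hap, hea⟩ hfa (by rw [hpol g' hg'O]; exact hfa) hqa
    set g'' : V ≃ₗ[A] V := g'.trans T2.symm with hg''
    have hg''O : g'' ∈ QuadGrp.O q := fun x => by
      rw [hg'', LinearEquiv.trans_apply]
      conv_rhs => rw [← hg'O x, ← T2.apply_symm_apply (g' x), hT2O]
    obtain ⟨r', u', S, t, hr', hSO, hS⟩ := ih (Nat.le_of_succ_le hr) g'' hg''O fun i hi => by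
      simp only [hg'', LinearEquiv.trans_apply, LinearEquiv.symm_apply_eq]
      by_cases hij : (i : ℕ) < j
      · exact ⟨by rw [(hfix' i hij).1, hT2K _ (Or.inl ⟨i, hij, Or.inl rfl⟩)],
          by rw [(hfix' i hij).2, hT2K _ (Or.inl ⟨i, hij, Or.inr rfl⟩)]⟩
      · obtain rfl : i = j := Fin.ext (by simp only [hj] at hij ⊢; omega)
        exact ⟨by rw [hge', hT2K _ (Or.inr rfl)], hT2v.symm⟩
    refine ⟨p + (p2 + r'), u * (u2 * u'), (S.trans T2).trans T, t, hT.mul (hT2.mul hr'), fun x => ?_, fun v => ?_⟩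
    · rw [LinearEquiv.trans_apply, LinearEquiv.trans_apply, hTO, hT2O, hSO]
    · rw [LinearEquiv.trans_apply, LinearEquiv.trans_apply, ← hS v]
      simp [hg'', hg']

theorem Frame.polar_e_apply (v : V) : QuadraticMap.polar q F.e v = F.mu v * (2 * (F.c : A)) := by
  conv_lhs => rw [F.decompose v, QuadraticMap.polar_add_right, QuadraticMap.polar_smul_right, F.polar_e,
    QuadraticMap.polar_self, F.qe, zero_add, smul_eq_mul, nsmul_eq_mul, Nat.cast_ofNat]

include F in
/-- Isometries of determinant one are products of an even number of reflections. -/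
theorem Frame.exists_even_lift (hA : InfRes A) (g : V ≃ₗ[A] V) (hg : g ∈ QuadGrp.O q)
    (hd : LinearMap.det g.toLinearMap = 1) :
    ∃ (p : ℕ) (u : (CliffordAlgebra q)ˣ), Even p ∧ Lifted q g p u := by
  obtain ⟨p, u, T, t, hT, -, hgT, hdet⟩ := F.exists_normal hA g hg
  rw [hd] at hdet
  rcases Nat.even_or_odd p with hp | hp
  · rw [hp.neg_one_pow, one_mul] at hdet
    have : g = T := LinearEquiv.ext fun v => by rw [hgT, ← hdet, sub_self, zero_smul, add_zero]
    exact ⟨p, u, hp, this ▸ hT⟩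
  · rw [hp.neg_one_pow, neg_one_mul] at hdet
    have e : g = (refl F.e F.c F.qe).trans T := LinearEquiv.ext fun v => by
      rw [LinearEquiv.trans_apply, hgT, refl_apply, F.polar_e_apply, smul_smul, sub_eq_add_neg v, ← neg_smul]
      congr 2
      congr 1
      have hc : (↑F.c⁻¹ : A) * ↑F.c = 1 := F.c.inv_mul
      linear_combination (F.mu v) * hdet + 2 * F.mu v * hc
    exact ⟨p + 1, _, hp.add_one, e ▸ hT.mul (lifted_refl F.e F.c F.qe)⟩

include F in
/-- An isometry induced by conjugation has determinant one. -/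
theorem Frame.det_conj (hA : InfRes A) (g : V ≃ₗ[A] V) (hg : g ∈ QuadGrp.O q) (x : (CliffordAlgebra q)ˣ)
    (hx : ∀ v, (x : CliffordAlgebra q) * ι q v = ι q (g v) * x) : LinearMap.det g.toLinearMap = 1 := by
  obtain ⟨p, u, T, t, hT, -, hgT, hdet⟩ := F.exists_normal hA g hg
  set y : CliffordAlgebra q := (↑u⁻¹ : CliffordAlgebra q) * x with hy
  have hs : ((-1 : A) ^ p) * (-1) ^ p = 1 := by rw [← pow_add, Even.neg_one_pow ⟨p, rfl⟩]
  have hinv : ∀ w, (↑u⁻¹ : CliffordAlgebra q) * ι q (T w) = (-1 : A) ^ p • (ι q w * ↑u⁻¹) := fun w => by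
    have h1 := congrArg (fun z => (-1 : A) ^ p • ((↑u⁻¹ : CliffordAlgebra q) * z * ↑u⁻¹)) (hT.conj w)
    simp only [← mul_assoc, Units.inv_mul, one_mul, mul_smul_comm, smul_mul_assoc, smul_smul, hs, one_smul] at h1
    rw [h1, mul_assoc _ (u : CliffordAlgebra q), Units.mul_inv, mul_one]
  have hyv : ∀ v, y * ι q v = (-1 : A) ^ p • (ι q (v + (t - 1) • F.mu v • F.e) * y) := fun v => by
    rw [hy, mul_assoc, hx, ← mul_assoc, hgT, hinv, smul_mul_assoc, mul_assoc]
  have hn : ∀ n, y * ι q (F.P.comb n) = (-1 : A) ^ p • (ι q (F.P.comb n) * y) := fun n => by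
    rw [hyv, F.muc, zero_smul, smul_zero, add_zero]
  have hw : ∀ a ∈ evenOdd F.qN 0, y * F.inc a = F.inc a * y := fun a ha => by
    induction a, ha using CliffordAlgebra.even_induction with
    | algebraMap r => rw [AlgHom.commutes, Algebra.commutes]
    | add a b _ _ ha hb => rw [map_add, mul_add, add_mul, ha, hb]
    | ι_mul_ι_mul n n' z _ hz =>
      rw [map_mul, map_mul, F.inc_ι, F.inc_ι, ← mul_assoc, ← mul_assoc, hn, smul_mul_assoc, smul_mul_assoc,
        mul_assoc _ y, hn, mul_smul_comm, smul_mul_assoc, smul_smul, hs, one_smul, mul_assoc _ _ (F.inc z),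
        mul_assoc _ y, hz]
      simp only [mul_assoc]
  have he : y * ι q F.e = ((-1 : A) ^ p * t) • (ι q F.e * y) := by
    rw [hyv, F.mue, one_smul, sub_smul, one_smul, add_sub_cancel, map_smul, smul_mul_assoc, smul_smul]
  have hyz : y * F.zeta = F.zeta * y := commute_all _ F.zeta_central y
  rw [Frame.zeta, ← mul_assoc, he, mul_assoc (ι q F.e) _ y, ← hw _ F.w_even, smul_mul_assoc, mul_assoc] at hyz
  have heu : IsUnit (ι q F.e) := ⟨⟨_, _, (ι_mul_inv F.e F.c F.qe).1, (ι_mul_inv F.e F.c F.qe).2⟩, rfl⟩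
  have hu : IsUnit (ι q F.e * (y * F.inc (1 - 2 * F.PN.zel m))) :=
    heu.mul ((hy ▸ (u⁻¹).isUnit.mul x.isUnit).mul (F.isSplit.unit.map F.inc))
  rw [Algebra.smul_def] at hyz
  rw [hdet]
  refine algebraMap_injective (Q := q) ?_
  rw [map_one]
  exact hu.mul_left_inj.mp (by rw [one_mul]; exact hyz)

end Groth.Agent.Lib.QuadGrp99.Cliff.Odd
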