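import Groth.Agent.Lib.QuadGrp99.Cliff.Global
import Groth.Agent.Lib.QuadGrp99.Cliff.Odd.Struct
import Mathlib.LinearAlgebra.Dimension.Finrank

/-!
# Odd rank: descent to local rings and globalisation
-/

open CliffordAlgebra TensorProduct
open scoped Pointwise

universe u v

namespace Groth.Agent.Lib.QuadGrp99.Cliff.Odd

open Groth.Agent.Lib.QuadGrp99.Cliff

variable {R : Type u} [CommRing R] {M : Type v} [AddCommGroup M] [Module R M] {m : ℕ}
  (b : Module.Basis (Fin (2 * m + 1)) R M) {Q : QuadraticForm R M}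

theorem toBC_star [Module.Free R M] (A : Type u) [CommRing A] [Algebra R A] (x : CliffordAlgebra Q) :
    toBC A Q (star x) = star (toBC A Q x) := by
  induction x using CliffordAlgebra.left_induction with
  | algebraMap r =>
    rw [CliffordAlgebra.star_algebraMap, AlgHom.commutes, IsScalarTower.algebraMap_apply R A,
      CliffordAlgebra.star_algebraMap]
  | add a c ha hc => simp only [map_add, star_add, ha, hc]
  | ι_mul a v ha => simp only [map_mul, toBC_ι, star_mul, star_ι, map_neg, ha]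

theorem star_mem_evenOdd (i : ZMod 2) (x : CliffordAlgebra Q) (hx : x ∈ evenOdd Q i) : star x ∈ evenOdd Q i := by
  rw [star_def]
  exact (reverse_mem_evenOdd_iff Q).mpr ((involute_mem_evenOdd_iff Q).mpr hx)

section
variable [Module.Free R M] [Module.Finite R M]

/-- A retraction of the scalars. -/
noncomputable def phi (Q : QuadraticForm R M) : CliffordAlgebra Q →ₗ[R] R :=
  (ExteriorAlgebra.algebraMapInv (M := M)).toLinearMap.comp (toExt Q).toLinearMap

theorem phi_one : phi Q 1 = 1 := by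
  simp [phi, toExt, changeFormEquiv_apply, changeForm_one]

theorem phi_key (A : Type u) [CommRing A] [Algebra R A] (x : CliffordAlgebra Q) (c : A)
    (h : toBC A Q x = algebraMap A _ c) : toBC A Q (x - algebraMap R _ (phi Q x)) = 0 := by
  have h1 := congrArg (fun y => TensorProduct.rid R A ((phi Q).lTensor A (toTensor A Q y))) h
  simp only [toTensor_toBC, AlgHom.commutes, Algebra.TensorProduct.algebraMap_apply, LinearMap.lTensor_tmul,
    TensorProduct.rid_tmul, phi_one, Algebra.algebraMap_self, RingHom.id_apply, one_smul,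
    ← Algebra.algebraMap_eq_smul_one] at h1
  rw [map_sub, AlgHom.commutes, IsScalarTower.algebraMap_apply R A, h, h1, sub_self]

end

include b in
theorem free_finite : Module.Free R M ∧ Module.Finite R M :=
  ⟨Module.Free.of_basis b, Module.Finite.of_basis b⟩

variable (hQ : QuadGrp.IsSemiregular b (LinearEquiv.refl R R) Q)

include hQ in
theorem semiregular_QA [Module.Free R M] (A : Type u) [CommRing A] [Algebra R A] :
    QuadGrp.IsSemiregular (b.baseChange A) (LinearEquiv.refl A A) (QA A Q) := by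
  rw [QuadGrp.IsSemiregular, HalfDisc.halfDisc_baseChange]
  exact hQ.map _

include hQ in
theorem exists_frame_big [IsLocalRing R] [Module.Free R M] [Module.Finite R M] :
    Nonempty (Frame (A := Big R) (V := Big R ⊗[R] M) (QA (Big R) Q) m) :=
  exists_frame (big_infRes R)
    (adm_of_semiregular ⟨m, rfl⟩ _ _ (semiregular_QA b hQ (Big R))) m
    (by rw [Module.finrank_eq_card_basis (b.baseChange (Big R)), Fintype.card_fin])

include hQ in
theorem even_scalar_local [IsLocalRing R] [Module.Free R M] [Module.Finite R M] (x : CliffordAlgebra Q)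
    (hx : x ∈ evenOdd Q 0) (h : ∀ v, ι Q v * x = x * ι Q v) : x ∈ Set.range (algebraMap R (CliffordAlgebra Q)) := by
  obtain ⟨F⟩ := exists_frame_big b hQ
  obtain ⟨c, hc⟩ := F.even_scalar _ (toBC_mem_evenOdd _ Q 0 x hx) (toBC_commute _ Q x h)
  exact ⟨phi Q x, (sub_eq_zero.mp (toBC_injective (Big R) Q (big_injective R)
    ((phi_key (Big R) x c hc.symm).trans (map_zero _).symm))).symm⟩

include hQ in
/-- Even central elements are scalars. -/
theorem even_scalar [Module.Free R M] [Module.Finite R M] (x : CliffordAlgebra Q) (hx : x ∈ evenOdd Q 0)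
    (h : ∀ v, ι Q v * x = x * ι Q v) : x ∈ Set.range (algebraMap R (CliffordAlgebra Q)) := by
  refine ⟨phi Q x, (sub_eq_zero.mp (eq_zero_of_local _ fun J _ => ?_)).symm⟩
  obtain ⟨c, hc⟩ := even_scalar_local (b.baseChange (Localization.AtPrime J)) (semiregular_QA b hQ _) _
    (toBC_mem_evenOdd _ Q 0 x hx) (toBC_commute _ Q x h)
  exact phi_key _ x c hc.symm

include hQ in
/-- The odd central unit. -/
theorem exists_zeta [IsLocalRing R] [Module.Free R M] [Module.Finite R M] :
    ∃ z : CliffordAlgebra Q, z ∈ evenOdd Q 1 ∧ (∀ v, ι Q v * z = z * ι Q v) ∧ IsUnit z ∧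
      (∃ d : Rˣ, z * z = algebraMap R _ (d : R)) ∧ star z = (-1 : R) ^ (m + 1) • z ∧
      ∀ x ∈ evenOdd Q 1, (∀ v, ι Q v * x = x * ι Q v) → ∃ r : R, x = r • z := by
  obtain ⟨F⟩ := exists_frame_big b hQ
  set A := Big R
  obtain ⟨d', hd'⟩ := F.zeta_sq
  have hzu : IsUnit F.zeta := isUnit_of_sq_scalar _ _ d'.isUnit hd'
  let bb := finBasis' R M
  let f : CliffordAlgebra Q →ₗ[R] (Fin (Fintype.card (Module.Free.ChooseBasisIndex R M)) → CliffordAlgebra Q) :=
    LinearMap.pi fun i => LinearMap.mulRight R (ι Q (bb i)) - LinearMap.mulLeft R (ι Q (bb i))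
  let P1 : CliffordAlgebra Q →ₗ[R] CliffordAlgebra Q := LinearMap.id - P0 Q
  have hker : ∀ k ∈ LinearMap.ker f, ∀ v, ι Q v * k = k * ι Q v := fun k hk v => by
    rw [← bb.sum_repr v, map_sum, Finset.mul_sum, Finset.sum_mul]
    refine Finset.sum_congr rfl fun i _ => ?_
    rw [map_smul, mul_smul_comm, smul_mul_assoc]
    have := congrFun (LinearMap.mem_ker.mp hk) i
    simp only [f, LinearMap.pi_apply, LinearMap.sub_apply, LinearMap.mulRight_apply, LinearMap.mulLeft_apply,
      Pi.zero_apply] at this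
    rw [sub_eq_zero.mp this]
  have ht : f.lTensor A (toTensor A Q F.zeta) = 0 := by
    refine eq_zero_of_proj A _ fun i => ?_
    rw [← LinearMap.lTensor_comp_apply,
      show (LinearMap.proj i).comp f = LinearMap.mulRight R (ι Q (bb i)) - LinearMap.mulLeft R (ι Q (bb i)) from rfl,
      toTensor_commutation A Q _
        (LinearMap.mulRight A (toBC A Q (ι Q (bb i))) - LinearMap.mulLeft A (toBC A Q (ι Q (bb i))))
        (fun x => by simp)]
    rw [LinearMap.sub_apply, LinearMap.mulRight_apply, LinearMap.mulLeft_apply, toBC_ι, F.zeta_central, sub_self,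
      map_zero]
  have hmult : ∀ k ∈ LinearMap.ker f, ∃ c : A, ((toBC A Q).toLinearMap.comp P1) k = c • F.zeta := fun k hk =>
    F.odd_central _ (toBC_mem_evenOdd A Q 1 _ (sub_P0_mem Q k))
      (toBC_commute A Q _ (center_components Q k (hker k hk)).2)
  have hLt : ((toBC A Q).toLinearMap.comp P1).liftBaseChange A (toTensor A Q F.zeta) = F.zeta := by
    have e : ∀ x : A ⊗[R] CliffordAlgebra Q, ((toBC A Q).toLinearMap.comp P1).liftBaseChange A x =
        ofTensor A Q x - ofTensor A Q ((P0 Q).lTensor A x) := fun x => by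
      induction x using TensorProduct.induction_on with
      | zero => simp
      | add a c ha hc => simp only [map_add, ha, hc]; abel
      | tmul a c => simp [P1, ofTensor, smul_sub]
    rw [e, ofTensor_toTensor, ofTensor_P0, P0_odd _ F.zeta_odd, sub_zero]
  obtain ⟨k, hk, hku⟩ := descend A Q f _ (toTensor A Q F.zeta) ht F.zeta hzu hmult hLt
  set z := k - P0 Q k with hz
  have hzc := (center_components Q k (hker k hk)).2
  have hzodd : z ∈ evenOdd Q 1 := sub_P0_mem Q k
  have hzunit : IsUnit z := isUnit_of_toBC A Q z hku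
  obtain ⟨r, hr⟩ := even_scalar_local b hQ (z * z) (mul_mem_even_odd Q (by decide) hzodd hzodd) fun v => by
    rw [← mul_assoc, hzc, mul_assoc, hzc, ← mul_assoc]
  have hru : IsUnit r := by
    refine isUnit_of_smul_isUnit Q r 1 ?_
    rw [← Algebra.algebraMap_eq_smul_one, hr]
    exact hzunit.mul hzunit
  obtain ⟨d, rfl⟩ := hru
  refine ⟨z, hzodd, hzc, hzunit, ⟨d, hr.symm⟩, ?_, fun x hx hxc => ?_⟩
  · refine toBC_injective A Q (big_injective R) ?_
    obtain ⟨c, hc⟩ := hmult k hk
    have hc' : toBC A Q z = c • F.zeta := hc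
    rw [toBC_star, map_smul, hc', CliffordAlgebra.star_smul, F.star_zeta, smul_comm c,
      ← algebraMap_smul A ((-1 : R) ^ (m + 1)), map_pow, map_neg, map_one]
  · obtain ⟨s, hs⟩ := even_scalar_local b hQ (x * z) (mul_mem_even_odd Q (by decide) hx hzodd) fun v => by
      rw [← mul_assoc, hxc, mul_assoc, hzc, ← mul_assoc]
    refine ⟨↑d⁻¹ * s, ?_⟩
    rw [mul_smul, Algebra.smul_def s, hs, mul_assoc, ← hr, Algebra.smul_def, ← Algebra.commutes (d : R) x,
      ← mul_assoc, ← map_mul, d.inv_mul, map_one, one_mul]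

include hQ in
theorem star_odd_central (x : CliffordAlgebra Q) (hx : x ∈ evenOdd Q 1) (hc : ∀ v, ι Q v * x = x * ι Q v) :
    star x = (-1 : R) ^ (m + 1) • x := by
  obtain ⟨_, _⟩ := free_finite b
  rw [← sub_eq_zero]
  refine eq_zero_of_local _ fun J _ => ?_
  let A := Localization.AtPrime J
  obtain ⟨z, -, -, -, -, hzs, hzall⟩ := exists_zeta (b.baseChange A) (semiregular_QA b hQ A)
  obtain ⟨r, hr⟩ := hzall _ (toBC_mem_evenOdd A Q 1 x hx) (toBC_commute A Q x hc)
  rw [map_sub, map_smul, toBC_star, hr, CliffordAlgebra.star_smul, hzs, smul_comm r,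
    ← algebraMap_smul A ((-1 : R) ^ (m + 1)), map_pow, map_neg, map_one, sub_self]

include hQ in
theorem center_local [IsLocalRing R] [Module.Free R M] [Module.Finite R M] :
    ∃ z : CliffordAlgebra Q, z ∈ evenOdd Q 1 ∧ (∀ v, ι Q v * z = z * ι Q v) ∧ IsUnit z ∧
      (∃ d : Rˣ, z * z = algebraMap R _ (d : R)) ∧
      ∀ x, (∀ v, ι Q v * x = x * ι Q v) → ∃ a r : R, x = a • (1 : CliffordAlgebra Q) + r • z := by
  obtain ⟨z, h1, h2, h3, h4, -, h6⟩ := exists_zeta b hQ
  refine ⟨z, h1, h2, h3, h4, fun x hx => ?_⟩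
  obtain ⟨c0, c1⟩ := center_components Q x hx
  obtain ⟨a, ha⟩ := even_scalar_local b hQ _ (P0_mem Q x) c0
  obtain ⟨r, hr⟩ := h6 _ (sub_P0_mem Q x) c1
  exact ⟨a, r, by rw [← hr, ← Algebra.algebraMap_eq_smul_one, ha, add_sub_cancel]⟩

include hQ in
/-- Isometries of determinant one lift to even elements over local rings. -/
theorem exists_lift_SO [IsLocalRing R] [Module.Free R M] [Module.Finite R M] (g : M ≃ₗ[R] M)
    (hg : g ∈ QuadGrp.O Q) (hd : LinearMap.det g.toLinearMap = 1) :
    ∃ u : (CliffordAlgebra Q)ˣ, (u : CliffordAlgebra Q) ∈ evenOdd Q 0 ∧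
      ∀ v, (u : CliffordAlgebra Q) * ι Q v * ↑u⁻¹ = ι Q (g v) := by
  obtain ⟨F⟩ := exists_frame_big b hQ
  set A := Big R
  have hgA := baseChange_mem_O A Q g hg
  obtain ⟨p, u', hp, hu⟩ := F.exists_even_lift (big_infRes R) _ hgA
    ((LinearMap.det_baseChange (A := A) g.toLinearMap).trans (by rw [hd, map_one]))
  have hu'e : (u' : CA A (Q := Q)) ∈ evenOdd (QA A Q) 0 := by
    have := hu.mem
    rwa [(ZMod.natCast_eq_zero_iff_even).mpr hp] at this
  have hu' := hu.conj_even hp
  let bb := finBasis' R M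
  let f : CliffordAlgebra Q →ₗ[R] (Fin (Fintype.card (Module.Free.ChooseBasisIndex R M)) → CliffordAlgebra Q) :=
    LinearMap.pi fun i => LinearMap.mulRight R (ι Q (bb i)) - LinearMap.mulLeft R (ι Q (g (bb i)))
  have hker : ∀ k ∈ LinearMap.ker f, ∀ v, P0 Q k * ι Q v = ι Q (g v) * P0 Q k := fun k hk v => by
    rw [← bb.sum_repr v, map_sum, map_sum, map_sum, Finset.mul_sum, Finset.sum_mul]
    refine Finset.sum_congr rfl fun i _ => ?_
    rw [map_smul, map_smul, map_smul, mul_smul_comm, smul_mul_assoc]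
    congr 1
    have := congrFun (LinearMap.mem_ker.mp hk) i
    simp only [f, LinearMap.pi_apply, LinearMap.sub_apply, LinearMap.mulRight_apply, LinearMap.mulLeft_apply,
      Pi.zero_apply] at this
    refine sub_eq_zero.mp (parity_zero Q
      (b := (k - P0 Q k) * ι Q (bb i) - ι Q (g (bb i)) * (k - P0 Q k))
      (sub_mem (mul_mem_even_odd Q (by decide) (P0_mem Q k) (ι_mem_evenOdd_one Q _))
        (mul_mem_even_odd Q (by decide) (ι_mem_evenOdd_one Q _) (P0_mem Q k)))
      (sub_mem (mul_mem_even_odd Q (by decide) (sub_P0_mem Q k) (ι_mem_evenOdd_one Q _))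
        (mul_mem_even_odd Q (by decide) (ι_mem_evenOdd_one Q _) (sub_P0_mem Q k))) ?_)
    rw [← this, sub_mul, mul_sub]; abel
  have ht : f.lTensor A (toTensor A Q u') = 0 := by
    refine eq_zero_of_proj A _ fun i => ?_
    rw [← LinearMap.lTensor_comp_apply,
      show (LinearMap.proj i).comp f = LinearMap.mulRight R (ι Q (bb i)) - LinearMap.mulLeft R (ι Q (g (bb i))) from rfl,
      toTensor_commutation A Q _
        (LinearMap.mulRight A (toBC A Q (ι Q (bb i))) - LinearMap.mulLeft A (toBC A Q (ι Q (g (bb i)))))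
        (fun x => by simp)]
    rw [LinearMap.sub_apply, LinearMap.mulRight_apply, LinearMap.mulLeft_apply, toBC_ι, toBC_ι, hu',
      LinearEquiv.baseChange_tmul, sub_self, map_zero]
  have hmult : ∀ k ∈ LinearMap.ker f,
      ∃ c : A, ((toBC A Q).toLinearMap.comp (P0 Q)) k = c • (u' : CA A (Q := Q)) := fun k hk => by
    have hk' := toBC_conj A g _ (hker k hk)
    have hinv : ((u'⁻¹ : (CA A (Q := Q))ˣ) : CA A (Q := Q)) ∈ evenOdd (QA A Q) 0 :=
      (QuadGrp.evenUnits (R := A) (M := A ⊗[R] M) (QA A Q)).inv_mem (x := u') hu'e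
    obtain ⟨c, hc⟩ := F.even_scalar (↑u'⁻¹ * toBC A Q (P0 Q k))
      (mul_mem_even_odd _ (by decide) hinv (toBC_mem_evenOdd A Q 0 _ (P0_mem Q k))) fun v => by
      rw [mul_assoc, hk', ← mul_assoc, ← mul_assoc]
      congr 1
      refine u'.isUnit.mul_left_cancel ?_
      rw [← mul_assoc, ← mul_assoc, hu', mul_assoc, u'.mul_inv, mul_one, one_mul]
    refine ⟨c, ?_⟩
    show toBC A Q (P0 Q k) = _
    rw [Algebra.smul_def, Algebra.commutes, hc, ← mul_assoc, u'.mul_inv, one_mul]
  have hLt : ((toBC A Q).toLinearMap.comp (P0 Q)).liftBaseChange A (toTensor A Q u') = (u' : CA A (Q := Q)) := by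
    rw [ofTensor_comp, ofTensor_P0, P0_even _ hu'e]
  obtain ⟨k, hk, hku⟩ := descend A Q f _ (toTensor A Q u') ht u' u'.isUnit hmult hLt
  obtain ⟨u, hu0⟩ := isUnit_of_toBC A Q (P0 Q k) hku
  exact ⟨u, hu0 ▸ P0_mem Q k, fun v => by rw [hu0, hker k hk v, ← hu0, mul_assoc, u.mul_inv, mul_one]⟩

include hQ in
theorem det_conj_local [IsLocalRing R] [Module.Free R M] [Module.Finite R M] (g : M ≃ₗ[R] M)
    (hg : g ∈ QuadGrp.O Q) (x : (CliffordAlgebra Q)ˣ) (hx : ∀ v, (x : CliffordAlgebra Q) * ι Q v = ι Q (g v) * x) :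
    LinearMap.det g.toLinearMap = 1 := by
  obtain ⟨F⟩ := exists_frame_big b hQ
  refine big_injective R ?_
  rw [← LinearMap.det_baseChange, map_one]
  exact F.det_conj (big_infRes R) _ (baseChange_mem_O (Big R) Q g hg) (Units.map (toBC (Big R) Q).toMonoidHom x)
    (toBC_conj (Big R) g _ hx)

include hQ in
theorem det_conj [Module.Free R M] [Module.Finite R M] (g : M ≃ₗ[R] M)
    (hg : g ∈ QuadGrp.O Q) (x : (CliffordAlgebra Q)ˣ) (hx : ∀ v, (x : CliffordAlgebra Q) * ι Q v = ι Q (g v) * x) :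
    LinearMap.det g.toLinearMap = 1 := by
  rw [← sub_eq_zero]
  refine eq_zero_of_localization _ fun J hJ => ?_
  have := det_conj_local (b.baseChange (Localization.AtPrime J)) (semiregular_QA b hQ _) _
    (baseChange_mem_O (Localization.AtPrime J) Q g hg) (Units.map (toBC (Localization.AtPrime J) Q).toMonoidHom x)
    (toBC_conj (Localization.AtPrime J) g _ hx)
  rw [map_sub, ← LinearMap.det_baseChange, map_one]
  exact sub_eq_zero.mpr this

section
variable [Module.Free R M] [Module.Finite R M]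

theorem ι_injective : Function.Injective (ι Q) := fun v w h => by
  have := congrArg (toExt Q) h
  simp only [toExt, changeFormEquiv_apply, changeForm_ι] at this
  exact (ExteriorAlgebra.ι_leftInverse (R := R) (M := M)).injective this

theorem exists_iso_of_GPin' (u : (CliffordAlgebra Q)ˣ) (hu : u ∈ QuadGrp.GPin' Q) :
    ∃ g : M ≃ₗ[R] M, g ∈ QuadGrp.O Q ∧ ∀ v, (u : CliffordAlgebra Q) * ι Q v * ↑u⁻¹ = ι Q (g v) := by
  rw [QuadGrp.mem_GPin'] at hu
  have hmem : ∀ v, ∃ w, ι Q w = (u : CliffordAlgebra Q) * ι Q v * ↑u⁻¹ := fun v => by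
    have h : ConjAct.toConjAct u • ι Q v ∈ LinearMap.range (ι Q) := by rw [← hu]; exact ⟨_, ⟨v, rfl⟩, rfl⟩
    rwa [ConjAct.units_smul_def, ConjAct.ofConjAct_toConjAct] at h
  choose g hg using hmem
  let G : M →ₗ[R] M :=
    { toFun := g
      map_add' := fun v w => ι_injective (Q := Q) (by rw [map_add, hg, hg, hg, map_add, mul_add, add_mul])
      map_smul' := fun r v => ι_injective (Q := Q) (by
        rw [RingHom.id_apply, map_smul, hg, hg, map_smul, mul_smul_comm, smul_mul_assoc]) }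
  have hinj : Function.Injective G := fun v w h => ι_injective (Q := Q) (by
    have := congrArg (ι Q) h
    rw [show ι Q (G v) = _ from hg v, show ι Q (G w) = _ from hg w] at this
    exact u.isUnit.mul_left_cancel ((u⁻¹).isUnit.mul_right_cancel this))
  have hsurj : Function.Surjective G := fun w => by
    obtain ⟨_, ⟨v, rfl⟩, hv⟩ : ι Q w ∈ (ConjAct.toConjAct u • LinearMap.range (ι Q) : Submodule R (CliffordAlgebra Q)) := by
      rw [hu]; exact ⟨w, rfl⟩
    refine ⟨v, ι_injective (Q := Q) ?_⟩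
    rw [show ι Q (G v) = _ from hg v, ← hv]
    rfl
  refine ⟨LinearEquiv.ofBijective G ⟨hinj, hsurj⟩, fun v => ?_, fun v => (hg v).symm⟩
  show Q (g v) = Q v
  refine algebraMap_injective (Q := Q) ?_
  rw [← ι_sq_scalar, hg, mul_assoc, ← mul_assoc (↑u⁻¹ : CliffordAlgebra Q),
    ← mul_assoc (↑u⁻¹ : CliffordAlgebra Q), Units.inv_mul, one_mul, mul_assoc (u : CliffordAlgebra Q),
    ← mul_assoc (ι Q v), ι_sq_scalar, ← mul_assoc, ← Algebra.commutes, mul_assoc, Units.mul_inv, mul_one]

theorem conj_iff {g : M → M} (u : (CliffordAlgebra Q)ˣ) (v : M) :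
    (u : CliffordAlgebra Q) * ι Q v * ↑u⁻¹ = ι Q (g v) ↔ (u : CliffordAlgebra Q) * ι Q v = ι Q (g v) * u :=
  Units.mul_inv_eq_iff_eq_mul u

end

end Groth.Agent.Lib.QuadGrp99.Cliff.Odd
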