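import Groth.Agent.Lib.QuadGrp99.Cliff.Odd.Spinor
import Groth.Agent.Lib.QuadGrp99.Cliff.Group.Funct
import Groth.Agent.Lib.QuadGrp99.SplitFppf
import Mathlib.RingTheory.Localization.Integer

/-!
# The even Clifford algebra and the centre in odd rank
-/

open CliffordAlgebra TensorProduct

universe u

namespace Groth.Agent.Lib.QuadGrp99.Cliff.Odd

open Groth.Agent.Lib.QuadGrp99 Groth.Agent.Lib.QuadGrp99.Cliff

/-- Isometric forms have isomorphic even Clifford algebras. -/
theorem exists_evenEquiv {S V W : Type*} [CommRing S] [AddCommGroup V] [Module S V] [AddCommGroup W] [Module S W]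
    {q : QuadraticForm S V} {q' : QuadraticForm S W} (e : q.IsometryEquiv q') :
    Nonempty (↥(CliffordAlgebra.even q) ≃ₐ[S] ↥(CliffordAlgebra.even q')) :=
  ⟨AlgEquiv.ofAlgHom
    (((CliffordAlgebra.map e.toIsometry).comp (CliffordAlgebra.even q).val).codRestrict _
      fun x => map_mem_evenOdd e.toIsometry 0 _ x.2)
    (((CliffordAlgebra.map e.symm.toIsometry).comp (CliffordAlgebra.even q').val).codRestrict _
      fun x => map_mem_evenOdd e.symm.toIsometry 0 _ x.2)
    (AlgHom.ext fun x => Subtype.ext ((CliffordAlgebra.equivOfIsometry e).apply_symm_apply (x : CliffordAlgebra q')))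
    (AlgHom.ext fun x => Subtype.ext ((CliffordAlgebra.equivOfIsometry e).symm_apply_apply (x : CliffordAlgebra q)))⟩

/-- The even Clifford algebra commutes with base change. -/
theorem exists_evenBC {R : Type u} [CommRing R] {M : Type u} [AddCommGroup M] [Module R M] [Module.Free R M]
    [Module.Finite R M] (A : Type u) [CommRing A] [Algebra R A] (Q : QuadraticForm R M) :
    Nonempty ((A ⊗[R] ↥(CliffordAlgebra.even Q)) ≃ₐ[A] ↥(CliffordAlgebra.even (QA A Q))) := by
  let g : (A ⊗[R] ↥(CliffordAlgebra.even Q)) →ₐ[A] CliffordAlgebra (QA A Q) :=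
    Algebra.TensorProduct.lift (Algebra.ofId A (CliffordAlgebra (QA A Q)))
      ((toBC A Q).comp (CliffordAlgebra.even Q).val) fun a x => Algebra.commutes a _
  have hg : ∀ t, g t ∈ CliffordAlgebra.even (QA A Q) := fun t => by
    induction t using TensorProduct.induction_on with
    | zero => simp
    | add a b ha hb => rw [map_add]; exact add_mem ha hb
    | tmul a x =>
      rw [Algebra.TensorProduct.lift_tmul, Algebra.ofId_apply]
      exact mul_mem (Subalgebra.algebraMap_mem _ a) (toBC_mem_evenOdd A Q 0 _ x.2)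
  let P : CliffordAlgebra Q →ₗ[R] ↥(CliffordAlgebra.even Q) :=
    ((P0 Q).codRestrict (Subalgebra.toSubmodule (CliffordAlgebra.even Q)) fun x => P0_mem Q x)
  have hP : ∀ y, g (P.lTensor A (toTensor A Q y)) = P0 (QA A Q) y := fun y => by
    rw [← ofTensor_P0]
    generalize toTensor A Q y = t
    induction t using TensorProduct.induction_on with
    | zero => simp
    | add a b ha hb => simp only [map_add, ha, hb]
    | tmul a x =>
      rw [LinearMap.lTensor_tmul, LinearMap.lTensor_tmul, Algebra.TensorProduct.lift_tmul, Algebra.ofId_apply, ofTensor,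
        LinearMap.liftBaseChange_tmul, ← Algebra.smul_def]
      rfl
  have hinv : ∀ t, P.lTensor A (toTensor A Q (g t)) = t := fun t => by
    induction t using TensorProduct.induction_on with
    | zero => simp
    | add a b ha hb => simp only [map_add, ha, hb]
    | tmul a x =>
      rw [Algebra.TensorProduct.lift_tmul, Algebra.ofId_apply, ← Algebra.smul_def, map_smul, lTensor_smul']
      show a • (P.lTensor A (toTensor A Q (toBC A Q (x : CliffordAlgebra Q)))) = _
      rw [toTensor_toBC, LinearMap.lTensor_tmul, TensorProduct.smul_tmul', smul_eq_mul, mul_one]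
      congr 1
      exact Subtype.ext (P0_even Q x.2)
  refine ⟨AlgEquiv.ofBijective (g.codRestrict _ hg) ⟨fun s t hst => ?_, fun y => ?_⟩⟩
  · rw [← hinv s, ← hinv t]
    exact congrArg (fun z : ↥(CliffordAlgebra.even (QA A Q)) => P.lTensor A (toTensor A Q z.1)) hst
  · exact ⟨P.lTensor A (toTensor A Q y.1), Subtype.ext ((hP _).trans (P0_even _ y.2))⟩

/-- The even Clifford algebra of the split form. -/
theorem exists_even_split (R : Type u) [CommRing R] (m : ℕ) :
    Nonempty (↥(CliffordAlgebra.even (QuadGrp.splitForm R (2 * m + 1))) ≃ₐ[R] Matrix (Fin (2 ^ m)) (Fin (2 ^ m)) R) := by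
  let ψ : (Fin (2 * m + 1) → R) →ₗ[R] ((Fin m → R) × (Fin m → R)) × R :=
    ((LinearMap.pi fun i : Fin m => LinearMap.proj (⟨2 * i + 1, by omega⟩ : Fin (2 * m + 1))).prod
      (LinearMap.pi fun i : Fin m => LinearMap.proj (⟨2 * i + 2, by omega⟩ : Fin (2 * m + 1)))).prod
      (LinearMap.proj (⟨0, by omega⟩ : Fin (2 * m + 1)))
  have hψ : Function.Bijective ψ := by
    refine ⟨fun x y h => funext fun k => ?_, fun v => ?_⟩
    · obtain ⟨k, hk⟩ := k
      rcases Nat.eq_zero_or_pos k with rfl | hk0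
      · exact congrArg Prod.snd h
      · rcases Nat.even_or_odd k with ⟨l, hl⟩ | ⟨l, hl⟩
        · obtain rfl : k = 2 * (l - 1) + 2 := by omega
          exact congrFun (congrArg (fun p => p.1.2) h) ⟨l - 1, by omega⟩
        · obtain rfl : k = 2 * l + 1 := by omega
          exact congrFun (congrArg (fun p => p.1.1) h) ⟨l, by omega⟩
    · let k0 : Fin (2 * m + 1) → R := fun k => if h0 : (k : ℕ) = 0 then v.2 else
        if hk : (k : ℕ) % 2 = 1 then v.1.1 ⟨(k : ℕ) / 2, by omega⟩ else v.1.2 ⟨(k : ℕ) / 2 - 1, by omega⟩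
      have e1 : ∀ i : Fin m, k0 ⟨2 * i + 1, by omega⟩ = v.1.1 i := fun i => by
        simp only [k0]
        rw [dif_neg (by omega), dif_pos (by omega)]
        exact congrArg v.1.1 (Fin.ext (by simp; omega))
      have e2 : ∀ i : Fin m, k0 ⟨2 * i + 2, by omega⟩ = v.1.2 i := fun i => by
        simp only [k0]
        rw [dif_neg (by omega), dif_neg (by omega)]
        exact congrArg v.1.2 (Fin.ext (by simp))
      have e0 : k0 ⟨0, by omega⟩ = v.2 := dif_pos rfl
      exact ⟨k0, Prod.ext (Prod.ext (funext e1) (funext e2)) e0⟩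
  let e : (-QuadGrp.splitForm R (2 * m + 1)).IsometryEquiv (EquivEven.Q' (qh R m)) :=
    ⟨LinearEquiv.ofBijective ψ hψ, fun x => by
      show EquivEven.Q' (qh R m) (ψ x) = -(QuadGrp.splitForm R (2 * m + 1) x)
      rw [EquivEven.Q'_apply, qh_apply]
      simp only [QuadGrp.splitForm, QuadraticMap.add_apply, QuadraticMap.sum_apply, QuadraticMap.linMulLin_apply,
        LinearMap.proj_apply]
      rw [dif_pos (by omega)]
      simp only [QuadraticMap.comp_apply, QuadraticMap.sq_apply, LinearMap.proj_apply, neg_add, sub_eq_add_neg]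
      congr 2
      refine Fintype.sum_equiv (finCongr (by omega)) _ _ fun i => ?_
      show x ⟨2 * (i : ℕ) + 1, _⟩ * x ⟨2 * (i : ℕ) + 2, _⟩ = _
      congr 2 <;> (apply Fin.ext; simp) <;> omega⟩
  obtain ⟨e1⟩ := exists_evenEquiv e
  obtain ⟨e2⟩ := exists_spinor R m
  exact ⟨(evenEquivEvenNeg _).trans (e1.trans ((equivEven (qh R m)).symm.trans e2))⟩

variable {R : Type u} [CommRing R] {M : Type u} [AddCommGroup M] [Module R M] {m : ℕ}
  (b : Module.Basis (Fin (2 * m + 1)) R M) {Q : QuadraticForm R M}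
  (hQ : QuadGrp.IsSemiregular b (LinearEquiv.refl R R) Q)

include hQ in
theorem exists_fppf_matrix : ∃ (R' : Type u) (_ : CommRing R') (_ : Algebra R R'), Module.FaithfullyFlat R R' ∧
    Algebra.FinitePresentation R R' ∧
    Nonempty ((R' ⊗[R] ↥(CliffordAlgebra.even Q)) ≃ₐ[R'] Matrix (Fin (2 ^ m)) (Fin (2 ^ m)) R') := by
  haveI := Module.Free.of_basis b
  haveI := Module.Finite.of_basis b
  let Q₀ : QuadraticForm R (Fin (2 * m + 1) → R) := Q.comp b.equivFun.symm.toLinearMap
  have hQ₀ : QuadGrp.IsSemiregular (Pi.basisFun R (Fin (2 * m + 1))) (LinearEquiv.refl R R) Q₀ := by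
    have e : QuadGrp.coeffs (Pi.basisFun R (Fin (2 * m + 1))) (LinearEquiv.refl R R) Q₀ =
        QuadGrp.coeffs b (LinearEquiv.refl R R) Q := funext fun s => by
      induction s using Sym2.ind with
      | h i j =>
        have hb : ∀ k, b.equivFun.symm (Pi.single k 1) = b k := fun k => by
          rw [LinearEquiv.symm_apply_eq]
          funext l
          simp [Finsupp.single_apply, Pi.single_apply, eq_comm]
        rw [QuadGrp.coeffs_mk, QuadGrp.coeffs_mk]
        simp only [Q₀, QuadraticMap.comp_apply, LinearEquiv.coe_coe, QuadraticMap.polar, map_add, Pi.basisFun_apply,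
          LinearEquiv.refl_apply, hb]
    unfold QuadGrp.IsSemiregular QuadGrp.halfDisc
    rw [e]
    exact hQ
  obtain ⟨A, iA, iRA, hff, hfp, -, ⟨es⟩⟩ := SplitFppf.exists_fppf_split m Q₀ hQ₀
  let e0 : Q.IsometryEquiv Q₀ :=
    ⟨b.equivFun, fun x => by show Q (b.equivFun.symm (b.equivFun x)) = _; rw [LinearEquiv.symm_apply_apply]⟩
  let e3 : (QA A (QuadGrp.splitForm R (2 * m + 1))).IsometryEquiv (QuadGrp.splitForm A (2 * m + 1)) :=
    ⟨(Rep.bA R (2 * m + 1) A).equivFun, fun x => (SplitFppf.QA_split_apply _ A x).symm⟩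
  obtain ⟨f0⟩ := exists_evenEquiv e0
  obtain ⟨f1⟩ := exists_evenBC A Q₀
  obtain ⟨f2⟩ := exists_evenEquiv es
  obtain ⟨f3⟩ := exists_evenEquiv e3
  obtain ⟨f4⟩ := exists_even_split A m
  exact ⟨A, iA, iRA, hff, hfp,
    ⟨(Algebra.TensorProduct.congr AlgEquiv.refl f0).trans (f1.trans (f2.trans (f3.trans f4)))⟩⟩

include hQ in
theorem odd_central_span : Ideal.span {d : R | ∃ z ∈ evenOdd Q 1, (∀ v, ι Q v * z = z * ι Q v) ∧
    z * z = algebraMap R (CliffordAlgebra Q) d} = ⊤ := by
  classical
  haveI := Module.Free.of_basis b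
  haveI := Module.Finite.of_basis b
  by_contra hne
  obtain ⟨J, hJ, hle⟩ := Ideal.exists_le_maximal _ hne
  let A := Localization.AtPrime J
  obtain ⟨ζ, hζ1, hζc, -, ⟨δ, hδ⟩, -, -⟩ := exists_zeta (R := A) (M := A ⊗[R] M) (b.baseChange A) (semiregular_QA b hQ A)
  obtain ⟨⟨s, hs⟩, hint⟩ := IsLocalization.exist_integer_multiples_of_finite J.primeCompl
    fun i => (Group.bC Q A).repr ζ i
  choose c hc using hint
  set z₀ : CliffordAlgebra Q := ∑ i, c i • Module.Free.chooseBasis R (CliffordAlgebra Q) i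
  have hz₀ : toBC A Q z₀ = algebraMap R A s • ζ := (Group.bC Q A).ext_elem fun i => by
    rw [← one_smul A (toBC A Q z₀), Group.repr_smul_toBC, Module.Basis.repr_sum_self, map_smul, Finsupp.smul_apply,
      smul_eq_mul, ← Algebra.algebraMap_eq_smul_one]
    exact (hc i).trans (Algebra.smul_def _ _)
  set z₁ := z₀ - P0 Q z₀
  have hz₁ : toBC A Q z₁ = algebraMap R A s • ζ := by
    rw [map_sub, toBC_P0, hz₀, map_smul, P0_odd _ hζ1, smul_zero, sub_zero]
  choose t ht ht' using fun j => exists_kill J (ι Q (b j) * z₁ - z₁ * ι Q (b j)) (by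
    rw [map_sub, map_mul, map_mul, hz₁, toBC_ι, mul_smul_comm, smul_mul_assoc, hζc, sub_self])
  set T := ∏ j, t j
  have hT : T ∉ J := prod_mem (S := J.primeCompl) fun j _ => ht j
  set z := T • z₁
  have hzc : ∀ v, ι Q v * z = z * ι Q v := fun v => by
    rw [← b.sum_repr v, map_sum, Finset.sum_mul, Finset.mul_sum]
    refine Finset.sum_congr rfl fun j _ => ?_
    rw [map_smul, smul_mul_assoc, mul_smul_comm (b.repr v j) z]
    refine congrArg (fun y : CliffordAlgebra Q => b.repr v j • y) ?_
    rw [← sub_eq_zero, mul_smul_comm, smul_mul_assoc, ← smul_sub]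
    obtain ⟨d, hd⟩ := Finset.dvd_prod_of_mem t (Finset.mem_univ j)
    rw [show T = d * t j from hd.trans (mul_comm _ _), mul_smul, ht', smul_zero]
  have hz1 : z ∈ evenOdd Q 1 := Submodule.smul_mem _ _ (sub_P0_mem Q z₀)
  obtain ⟨d, hd⟩ := even_scalar b hQ (z * z) (mul_mem_even_odd Q (by decide) hz1 hz1) fun v => by
    rw [← mul_assoc, hzc, mul_assoc, hzc, ← mul_assoc]
  have hdJ : d ∈ J := hle (Ideal.subset_span ⟨z, hz1, hzc, hd.symm⟩)
  have h1 := congrArg (toBC A Q) hd
  rw [AlgHom.commutes, IsScalarTower.algebraMap_apply R A, map_mul, map_smul, hz₁, ← algebraMap_smul A T,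
    smul_smul, smul_mul_smul_comm, hδ, Algebra.smul_def, ← map_mul] at h1
  have h2 := algebraMap_injective h1
  have hu : IsUnit (algebraMap R A d) := by
    rw [h2]
    exact (((IsLocalization.map_units A (⟨T, hT⟩ : J.primeCompl)).mul (IsLocalization.map_units A (⟨s, hs⟩ : J.primeCompl))).mul
      ((IsLocalization.map_units A (⟨T, hT⟩ : J.primeCompl)).mul (IsLocalization.map_units A (⟨s, hs⟩ : J.primeCompl)))).mul δ.isUnit
  exact (IsLocalization.AtPrime.isUnit_to_map_iff A J d).1 hu hdJ

include hQ in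
theorem center_mul_bijective :
    Function.Bijective (TensorProduct.lift
      (((LinearMap.mul R (CliffordAlgebra Q)).comp (Subalgebra.center R (CliffordAlgebra Q)).val.toLinearMap).compl₂
        (CliffordAlgebra.even Q).val.toLinearMap)) := by
  classical
  haveI := Module.Free.of_basis b
  haveI := Module.Finite.of_basis b
  set Φ := TensorProduct.lift
      (((LinearMap.mul R (CliffordAlgebra Q)).comp (Subalgebra.center R (CliffordAlgebra Q)).val.toLinearMap).compl₂
        (CliffordAlgebra.even Q).val.toLinearMap)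
  have hΦ : ∀ (z : ↥(Subalgebra.center R (CliffordAlgebra Q))) (x : ↥(CliffordAlgebra.even Q)),
      Φ (z ⊗ₜ[R] x) = (z : CliffordAlgebra Q) * (x : CliffordAlgebra Q) := fun z x => rfl
  obtain ⟨c, hc⟩ := (Submodule.mem_span_set (R := R)).1 ((Ideal.eq_top_iff_one _).1 (odd_central_span b hQ))
  choose z hz1 hzc hzd using fun d : c.support => hc.1 d.2
  have hzmem : ∀ d, z d ∈ Subalgebra.center R (CliffordAlgebra Q) := fun d =>
    Subalgebra.mem_center_iff.2 fun y => commute_all _ (hzc d) y
  have h1 : ∑ d : c.support, c d.1 * d.1 = 1 := by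
    rw [Finset.sum_coe_sort c.support (fun d => c d * d)]
    exact hc.2
  let P : CliffordAlgebra Q →ₗ[R] ↥(CliffordAlgebra.even Q) :=
    (P0 Q).codRestrict (Subalgebra.toSubmodule (CliffordAlgebra.even Q)) fun x => P0_mem Q x
  let P1 : c.support → CliffordAlgebra Q →ₗ[R] ↥(CliffordAlgebra.even Q) := fun d =>
    P.comp ((LinearMap.mulLeft R (z d)).comp (LinearMap.id - P0 Q))
  let Ψ : CliffordAlgebra Q →ₗ[R] ↥(Subalgebra.center R (CliffordAlgebra Q)) ⊗[R] ↥(CliffordAlgebra.even Q) :=
    (TensorProduct.mk R _ _ 1).comp P +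
      ∑ d : c.support, c d.1 • (TensorProduct.mk R _ _ ⟨z d, hzmem d⟩).comp (P1 d)
  have hzy : ∀ d y, y ∈ evenOdd Q 1 → z d * y ∈ evenOdd Q 0 := fun d y hy => mul_mem_even_odd Q (by decide) (hz1 d) hy
  refine ⟨Function.LeftInverse.injective (g := Ψ) fun t => ?_, fun y => ⟨Ψ y, ?_⟩⟩
  · induction t using TensorProduct.induction_on with
    | zero => simp
    | add p q hp hq => rw [map_add, map_add, hp, hq]
    | tmul w x =>
      have hwc : ∀ v, ι Q v * (w : CliffordAlgebra Q) = (w : CliffordAlgebra Q) * ι Q v := fun v =>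
        Subalgebra.mem_center_iff.1 w.2 _
      obtain ⟨c0, c1⟩ := center_components Q _ hwc
      obtain ⟨a, ha⟩ := even_scalar b hQ _ (P0_mem Q _) c0
      set w1 := (w : CliffordAlgebra Q) - P0 Q (w : CliffordAlgebra Q) with hw1
      have hw1o : w1 ∈ evenOdd Q 1 := sub_P0_mem Q _
      have hx0 : (x : CliffordAlgebra Q) ∈ evenOdd Q 0 := x.2
      have hwx : (w : CliffordAlgebra Q) * (x : CliffordAlgebra Q) = a • (x : CliffordAlgebra Q) + w1 * x := by
        rw [hw1, sub_mul, ← ha, ← Algebra.smul_def, add_sub_cancel]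
      have hP0 : P0 Q ((w : CliffordAlgebra Q) * x) = a • (x : CliffordAlgebra Q) := by
        rw [hwx, map_add, map_smul, P0_even Q hx0, P0_odd Q (mul_mem_even_odd Q (by decide) hw1o hx0), add_zero]
      choose s hs using fun d => even_scalar b hQ (z d * w1) (hzy d _ hw1o)
        fun v => by rw [← mul_assoc, hzc, mul_assoc, c1, ← mul_assoc]
      have hP1 : ∀ d, P1 d (Φ (w ⊗ₜ[R] x)) = s d • x := fun d => Subtype.ext (by
        show P0 Q (z d * ((w : CliffordAlgebra Q) * x - P0 Q ((w : CliffordAlgebra Q) * x))) = s d • (x : CliffordAlgebra Q)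
        rw [hP0, hwx, add_sub_cancel_left, P0_even Q (hzy d _ (mul_mem_even_odd Q (by decide) hw1o hx0)),
          ← mul_assoc, ← hs, ← Algebra.smul_def])
      have hP : P (Φ (w ⊗ₜ[R] x)) = a • x := Subtype.ext hP0
      have hw : w = a • (1 : ↥(Subalgebra.center R (CliffordAlgebra Q))) +
          ∑ d : c.support, (c d.1 * s d) • (⟨z d, hzmem d⟩ : ↥(Subalgebra.center R (CliffordAlgebra Q))) := by
        refine Subtype.ext ?_
        push_cast
        rw [← Algebra.algebraMap_eq_smul_one, ha]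
        have : ∀ d : c.support, (c d.1 * s d) • z d = (c d.1 * d.1) • w1 := fun d => by
          rw [mul_smul, mul_smul, Algebra.smul_def (s d), hs, mul_assoc, commute_all _ (hzc d) w1, ← mul_assoc, hzd,
            ← Algebra.smul_def]
        rw [Finset.sum_congr rfl fun d _ => this d, ← Finset.sum_smul, h1, one_smul, add_sub_cancel]
      simp only [Ψ, LinearMap.add_apply, LinearMap.comp_apply, LinearMap.sum_apply, LinearMap.smul_apply,
        TensorProduct.mk_apply, hP, hP1]
      conv_rhs => rw [hw]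
      simp only [TensorProduct.add_tmul, TensorProduct.sum_tmul, TensorProduct.smul_tmul, TensorProduct.tmul_smul,
        smul_smul]
  · have h2 : ∀ d : c.support, z d * (z d * (y - P0 Q y)) = d.1 • (y - P0 Q y) := fun d => by
      rw [← mul_assoc, hzd, ← Algebra.smul_def]
    simp only [Ψ, LinearMap.add_apply, LinearMap.comp_apply, LinearMap.sum_apply, LinearMap.smul_apply,
      TensorProduct.mk_apply, map_add, map_sum, map_smul, hΦ]
    show (1 : CliffordAlgebra Q) * P0 Q y + ∑ d : c.support, c d.1 • (z d * P0 Q (z d * (y - P0 Q y))) = y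
    simp only [P0_even Q (hzy _ _ (sub_P0_mem Q y)), h2, smul_smul]
    rw [← Finset.sum_smul, h1, one_smul, one_mul, add_sub_cancel]

include b in
theorem ι_range_isCompl : Function.Injective (ι Q) ∧ ∃ W, IsCompl (LinearMap.range (ι Q)) W := by
  haveI := Module.Free.of_basis b
  haveI := Module.Finite.of_basis b
  let ρ : CliffordAlgebra Q →ₗ[R] M := (ExteriorAlgebra.ιInv (R := R) (M := M)).comp (toExt Q).toLinearMap
  have hρ : ∀ v, ρ (ι Q v) = v := fun v => by
    simp only [ρ, LinearMap.comp_apply, LinearEquiv.coe_coe, toExt, changeFormEquiv_apply, changeForm_ι]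
    exact ExteriorAlgebra.ι_leftInverse (R := R) (M := M) v
  refine ⟨ι_injective, LinearMap.ker ρ, ⟨?_, ?_⟩⟩
  · rw [Submodule.disjoint_def]
    rintro _ ⟨v, rfl⟩ hv
    rw [LinearMap.mem_ker, hρ] at hv
    rw [hv, map_zero]
  · rw [codisjoint_iff, Submodule.eq_top_iff']
    intro x
    refine Submodule.mem_sup.2 ⟨ι Q (ρ x), ⟨_, rfl⟩, x - ι Q (ρ x), ?_, add_sub_cancel _ _⟩
    rw [LinearMap.mem_ker, map_sub, hρ, sub_self]

end Groth.Agent.Lib.QuadGrp99.Cliff.Odd
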