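import Groth.Agent.Lib.QuadGrp99.Cliff.Generate
import Groth.Agent.Lib.QuadGrp99.HalfDisc
import Mathlib.RingTheory.LocalRing.ResidueField.Basic
import Mathlib.RingTheory.Ideal.Operations

/-!
# Planes in semiregular forms of odd rank over local rings
-/

open CliffordAlgebra
open scoped Matrix

universe u v

namespace Groth.Agent.Lib.QuadGrp99.Cliff.Odd

open Groth.Agent.Lib.QuadGrp99.Cliff

variable {A : Type u} [CommRing A] [IsLocalRing A] {V : Type v} [AddCommGroup V] [Module A V]

local notation "𝔪" => IsLocalRing.maximalIdeal A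

/-- Residual nondegeneracy in odd rank. -/
structure Adm (q : QuadraticForm A V) : Prop where
  a1 : ∀ x, (∀ v, QuadraticMap.polar q x v ∈ 𝔪) → q x ∈ 𝔪 → x ∈ 𝔪 • (⊤ : Submodule A V)
  a2 : ∃ r : V, ∀ x, (∀ v, QuadraticMap.polar q x v ∈ 𝔪) → ∃ c : A, x - c • r ∈ 𝔪 • (⊤ : Submodule A V)

theorem adm_of_semiregular {n : ℕ} (hn : Odd n) (b : Module.Basis (Fin n) A V) (q : QuadraticForm A V)
    (hq : QuadGrp.IsSemiregular b (LinearEquiv.refl A A) q) : Adm q := by
  obtain ⟨B, hB⟩ := HalfDisc.exists_bilin b q
  set U := LinearMap.toMatrix₂ b b B with hU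
  set res := IsLocalRing.residue A
  have hne : HalfDisc.h (U.map res) ≠ 0 := by
    rw [← HalfDisc.map_h, ← HalfDisc.halfDisc_eq b q hB]
    exact (IsUnit.map res hq).ne_zero
  obtain ⟨h1, v, h2⟩ := (HalfDisc.h_ne_zero_iff hn _).mp hne
  have hker : ∀ x, (∀ v, QuadraticMap.polar q x v ∈ 𝔪) →
      (U.map res + (U.map res)ᵀ) *ᵥ (fun i => res (b.repr x i)) = 0 := fun x hx => by
    funext j
    have e : QuadraticMap.polar q x (b j) = ((U + Uᵀ) *ᵥ ⇑(b.repr x)) j := by
      rw [HalfDisc.polar_of_bilin q hB]
      conv_lhs => rw [← b.sum_repr x]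
      simp only [map_sum, map_smul, LinearMap.sum_apply, LinearMap.smul_apply, smul_eq_mul, Matrix.mulVec,
        dotProduct, Matrix.add_apply, Matrix.transpose_apply, hU, LinearMap.toMatrix₂_apply, ← Finset.sum_add_distrib]
      exact Finset.sum_congr rfl fun i _ => by ring
    have h0 : res (QuadraticMap.polar q x (b j)) = 0 := (IsLocalRing.residue_eq_zero_iff _).mpr (hx (b j))
    rw [e, RingHom.map_mulVec, Matrix.map_add res (map_add res), Matrix.transpose_map] at h0
    exact h0
  have hmem : ∀ x, (∀ i, b.repr x i ∈ 𝔪) → x ∈ 𝔪 • (⊤ : Submodule A V) := fun x hx => by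
    rw [← b.sum_repr x]
    exact Submodule.sum_mem _ fun i _ => Submodule.smul_mem_smul (hx i) Submodule.mem_top
  refine ⟨fun x hx hqx => hmem x fun i => ?_, ?_⟩
  · refine (IsLocalRing.residue_eq_zero_iff _).mp (congrFun (h1 _ (hker x hx) ?_) i)
    have h0 : res (q x) = 0 := (IsLocalRing.residue_eq_zero_iff _).mpr hqx
    rw [HalfDisc.value_eq b q hB x, RingHom.map_dotProduct] at h0
    rw [← hU] at h0
    rw [show res ∘ (U *ᵥ ⇑(b.repr x)) = U.map res *ᵥ (res ∘ ⇑(b.repr x)) from
      funext fun i => RingHom.map_mulVec res U _ i] at h0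
    exact h0
  · choose r₀ hr₀ using fun i => IsLocalRing.residue_surjective (R := A) (v i)
    refine ⟨∑ i, r₀ i • b i, fun x hx => ?_⟩
    obtain ⟨c, hc⟩ := h2 _ (hker x hx)
    obtain ⟨c₀, rfl⟩ := IsLocalRing.residue_surjective c
    refine ⟨c₀, hmem _ fun i => (IsLocalRing.residue_eq_zero_iff _).mp ?_⟩
    rw [map_sub, map_smul, Finsupp.sub_apply, Finsupp.smul_apply, b.repr_sum_self, smul_eq_mul, map_sub, map_mul,
      hr₀]
    exact sub_eq_zero.mpr (congrFun hc i)

variable [Module.Free A V] [Module.Finite A V] {q : QuadraticForm A V} {k : ℕ} (P : Pairs q k)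

theorem comb_mem_span (x : Fin k → A × A) :
    P.comb x ∈ Submodule.span A (Set.range fun p : Fin k × Fin 2 => if p.2 = 0 then P.e p.1 else P.f p.1) := by
  rw [P.comb_apply]
  refine add_mem (Submodule.sum_mem _ fun i _ => ?_) (Submodule.sum_mem _ fun i _ => ?_)
  · exact Submodule.smul_mem _ _ (Submodule.subset_span ⟨(i, 0), by simp⟩)
  · exact Submodule.smul_mem _ _ (Submodule.subset_span ⟨(i, 1), by simp⟩)

theorem exists_unit_vector (hq : Adm q) (m : ℕ) (hV : Module.finrank A V = 2 * m + 1) (hk : k ≤ m) :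
    ∃ e, P.Perp k e ∧ IsUnit (q e) := by
  by_contra hne
  push Not at hne
  have hbad : ∀ w, P.Perp k w → q w ∈ 𝔪 := fun w hw => by
    have := hne w hw
    rwa [isUnit_iff_notMem, not_not] at this
  have := finrank_le_of_dense (A := A) _ fun v => ⟨P.comb (P.coef v), comb_mem_span P _, by
    rw [show v - P.comb (P.coef v) = P.rest v from rfl]
    refine hq.a1 _ (fun v' => ?_) (hbad _ (P.rest_perp v))
    rw [← P.polar_rest _ _ (P.rest_perp v), QuadraticMap.polar]
    exact sub_mem (sub_mem (hbad _ (P.perp_add (P.rest_perp v) (P.rest_perp v'))) (hbad _ (P.rest_perp v)))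
      (hbad _ (P.rest_perp v'))⟩
  simp [hV] at this
  omega

theorem exists_pairs_succ (hA : InfRes A) (hq : Adm q) (m : ℕ) (hV : Module.finrank A V = 2 * m + 1)
    (hk : k < m) (P : Pairs q k) : Nonempty (Pairs q (k + 1)) := by
  classical
  let g : Fin k × Fin 2 → V := fun p => if p.2 = 0 then P.e p.1 else P.f p.1
  have hcomb : ∀ x, P.comb x ∈ Submodule.span A (Set.range g) := comb_mem_span P
  obtain ⟨e₀, he₀, hqe₀⟩ := exists_unit_vector P hq m hV hk.le
  obtain ⟨a, ha, va, hua⟩ : ∃ a, P.Perp k a ∧ ∃ v, IsUnit (QuadraticMap.polar q v a) := by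
    by_contra hne
    push Not at hne
    obtain ⟨r, hr⟩ := hq.a2
    have hrad : ∀ v, ∀ v', QuadraticMap.polar q (P.rest v) v' ∈ 𝔪 := fun v v' => by
      rw [QuadraticMap.polar_comm]
      by_contra h
      exact hne _ (P.rest_perp v) v' ((isUnit_iff_notMem _).mpr h)
    choose c hc using fun v => hr _ (hrad v)
    have := finrank_le_of_dense (A := A) (Sum.elim g fun _ : Unit => r) fun v =>
      ⟨P.comb (P.coef v) + c v • r, add_mem (Submodule.span_mono (by rintro _ ⟨p, rfl⟩; exact ⟨Sum.inl p, rfl⟩) (hcomb _))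
        (Submodule.smul_mem _ _ (Submodule.subset_span ⟨Sum.inr (), rfl⟩)), by
        rw [← sub_sub]; exact hc v⟩
    simp [hV] at this
    omega
  obtain ⟨s₀, t₀, hva, -, hqe⟩ := exists_units hA (q.polarBilin va) (q.polarBilin va) q a a e₀ hua hua hqe₀
  generalize hE : a + s₀ • a + t₀ • e₀ = e at hva hqe
  have he : P.Perp k e := hE ▸ P.perp_add (P.perp_add ha (P.perp_smul _ ha)) (P.perp_smul _ he₀)
  let phi : V →ₗ[A] A := q.polarBilin e
  obtain ⟨w1, hw1, hphi⟩ : ∃ w, P.Perp k w ∧ IsUnit (phi w) := ⟨P.rest va, P.rest_perp va, by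
    show IsUnit (QuadraticMap.polar q e (P.rest va))
    rw [P.polar_rest e va he, QuadraticMap.polar_comm]; exact hva⟩
  let Q' : QuadraticForm A V := (4 * q e) • q - QuadraticMap.linMulLin phi phi
  have hQ' : ∀ w, Q' w = 4 * q e * q w - phi w * phi w := fun w => rfl
  obtain ⟨w2, hw2, hQ2⟩ : ∃ w, P.Perp k w ∧ IsUnit (Q' w) := by
    by_cases h2 : IsUnit (2 : A)
    · by_contra hne
      push Not at hne
      have hbad : ∀ w, P.Perp k w → Q' w ∈ 𝔪 := fun w hw => by
        have := hne w hw
        rwa [isUnit_iff_notMem, not_not] at this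
      obtain ⟨u, hu⟩ := h2.mul hqe
      let r : V →ₗ[A] V := LinearMap.id - ((↑u⁻¹ : A) • phi).smulRight e
      have hr : ∀ w, r w = w - ((↑u⁻¹ : A) * phi w) • e := fun w => rfl
      let g' : Fin k × Fin 2 ⊕ Unit → V := Sum.elim g fun _ => e
      have := finrank_le_of_dense (A := A) g' fun v =>
          ⟨P.comb (P.coef v) + ((↑u⁻¹ : A) * phi (P.rest v)) • e, ?_, ?_⟩
      · simp [hV] at this
        omega
      · refine add_mem (Submodule.span_mono ?_ (hcomb _)) (Submodule.smul_mem _ _ (Submodule.subset_span ⟨Sum.inr (), rfl⟩))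
        rintro _ ⟨p, rfl⟩
        exact ⟨Sum.inl p, rfl⟩
      · have e0 : v - (P.comb (P.coef v) + ((↑u⁻¹ : A) * phi (P.rest v)) • e) = r (P.rest v) := by
          rw [hr, show P.rest v = v - P.comb (P.coef v) from rfl]; abel
        rw [e0]
        have hrp : P.Perp k (r (P.rest v)) := by
          rw [hr, sub_eq_add_neg, ← neg_smul]
          exact P.perp_add (P.rest_perp v) (P.perp_smul _ he)
        suffices hrad : ∀ v', QuadraticMap.polar q (r (P.rest v)) v' ∈ 𝔪 by
          refine hq.a1 _ hrad ?_
          have h2q := hrad (r (P.rest v))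
          rw [QuadraticMap.polar_self, nsmul_eq_mul, Nat.cast_ofNat] at h2q
          exact ((IsLocalRing.maximalIdeal.isMaximal A).isPrime.mem_or_mem h2q).resolve_left
            ((isUnit_iff_notMem _).mp h2)
        intro v'
        rw [← P.polar_rest _ _ hrp]
        have hw := P.rest_perp v'
        have h0 := P.rest_perp v
        generalize P.rest v = w at h0 ⊢
        generalize P.rest v' = w' at hw ⊢
        have hpol : 4 * q e * QuadraticMap.polar q w w' - 2 * phi w * phi w' ∈ 𝔪 := by
          have h3 := sub_mem (sub_mem (hbad _ (P.perp_add h0 hw)) (hbad _ h0)) (hbad _ hw)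
          simp only [hQ', map_add] at h3
          rw [QuadraticMap.map_add q] at h3
          convert h3 using 1
          ring
        have hphi' : phi w' = QuadraticMap.polar q e w' := rfl
        rw [hr, QuadraticMap.polar_sub_left, QuadraticMap.polar_smul_left, smul_eq_mul, ← hphi']
        have hu2 : IsUnit (4 * q e) := by
          rw [show (4 : A) * q e = 2 * (2 * q e) by ring]
          exact h2.mul (h2.mul hqe)
        have hp := (IsLocalRing.maximalIdeal.isMaximal A).isPrime
        refine (hp.mem_or_mem (show 4 * q e * (QuadraticMap.polar q w w' - (↑u⁻¹ : A) * phi w * phi w') ∈ 𝔪 from ?_)).resolve_left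
          ((isUnit_iff_notMem _).mp hu2)
        convert hpol using 1
        have h7 : (↑u⁻¹ : A) * (2 * q e) = 1 := by rw [← hu]; exact u.inv_mul
        linear_combination (-2 * phi w * phi w') * h7
    · refine ⟨w1, hw1, ?_⟩
      rw [isUnit_iff_notMem] at h2 hphi ⊢
      rw [not_not] at h2
      intro hmem
      have h4 : 4 * q e * q w1 ∈ 𝔪 :=
        Ideal.mul_mem_right _ _ (Ideal.mul_mem_right _ _ (by
          rw [show (4 : A) = 2 * 2 by norm_num]; exact Ideal.mul_mem_right _ _ h2))
      have := sub_mem h4 hmem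
      rw [hQ', sub_sub_cancel] at this
      exact hphi (((IsLocalRing.maximalIdeal.isMaximal A).isPrime.mem_or_mem this).elim id id)
  obtain ⟨s, t, hf1, -, hf3⟩ := exists_units hA phi phi Q' w1 w1 w2 hphi hphi hQ2
  generalize hf : w1 + s • w1 + t • w2 = f at hf1 hf3
  have hfp : P.Perp k f := hf ▸ P.perp_add (P.perp_add hw1 (P.perp_smul _ hw1)) (P.perp_smul _ hw2)
  obtain ⟨c, hc⟩ := hqe
  obtain ⟨p, hp⟩ := hf1
  obtain ⟨d, hd⟩ := hf3
  let f' : V := (↑p⁻¹ : A) • f
  have hf'p : P.Perp k f' := P.perp_smul _ hfp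
  refine ⟨{ e := Fin.snoc P.e e, f := Fin.snoc P.f f', c := Fin.snoc P.c c, d := Fin.snoc P.d (p⁻¹ * p⁻¹ * d),
            qe := ?_, pol := ?_, disc := ?_, ee := ?_, ef := ?_, ff := ?_ }⟩
  · intro i
    induction i using Fin.lastCases with
    | last => simp [hc]
    | cast i => simp [P.qe]
  · intro i
    induction i using Fin.lastCases with
    | last =>
      simp only [Fin.snoc_last, f', QuadraticMap.polar_smul_right, smul_eq_mul]
      rw [show QuadraticMap.polar q e f = phi f from rfl, ← hp, p.inv_mul]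
    | cast i => simp [P.pol]
  · intro i
    induction i using Fin.lastCases with
    | last =>
      simp only [Fin.snoc_last, f', QuadraticMap.map_smul, smul_eq_mul, Units.val_mul]
      rw [hd, hQ', ← hp]
      linear_combination (1 + (↑p⁻¹ : A) * ↑p) * p.inv_mul
    | cast i => simp [P.disc]
  · intro i j hij
    induction i using Fin.lastCases with
    | last =>
      induction j using Fin.lastCases with
      | last => exact absurd rfl hij
      | cast j => simp only [Fin.snoc_last, Fin.snoc_castSucc]; rw [QuadraticMap.polar_comm]; exact (he j j.isLt).1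
    | cast i =>
      induction j using Fin.lastCases with
      | last => simp only [Fin.snoc_last, Fin.snoc_castSucc]; exact (he i i.isLt).1
      | cast j => simp only [Fin.snoc_castSucc]; exact P.ee i j fun h => hij (by rw [h])
  · intro i j hij
    induction i using Fin.lastCases with
    | last =>
      induction j using Fin.lastCases with
      | last => exact absurd rfl hij
      | cast j => simp only [Fin.snoc_last, Fin.snoc_castSucc]; rw [QuadraticMap.polar_comm]; exact (he j j.isLt).2
    | cast i =>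
      induction j using Fin.lastCases with
      | last => simp only [Fin.snoc_last, Fin.snoc_castSucc]; exact (hf'p i i.isLt).1
      | cast j => simp only [Fin.snoc_castSucc]; exact P.ef i j fun h => hij (by rw [h])
  · intro i j hij
    induction i using Fin.lastCases with
    | last =>
      induction j using Fin.lastCases with
      | last => exact absurd rfl hij
      | cast j => simp only [Fin.snoc_last, Fin.snoc_castSucc]; rw [QuadraticMap.polar_comm]; exact (hf'p j j.isLt).2
    | cast i =>
      induction j using Fin.lastCases with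
      | last => simp only [Fin.snoc_last, Fin.snoc_castSucc]; exact (hf'p i i.isLt).2
      | cast j => simp only [Fin.snoc_castSucc]; exact P.ff i j fun h => hij (by rw [h])

theorem exists_pairs (hA : InfRes A) (hq : Adm q) (m : ℕ) (hV : Module.finrank A V = 2 * m + 1) :
    ∀ k ≤ m, Nonempty (Pairs q k)
  | 0, _ => ⟨{ e := Fin.elim0, f := Fin.elim0, c := Fin.elim0, d := Fin.elim0, qe := Fin.rec0, pol := Fin.rec0,
               disc := Fin.rec0, ee := fun i => i.elim0, ef := fun i => i.elim0, ff := fun i => i.elim0 }⟩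
  | k + 1, h => (exists_pairs hA hq m hV k (Nat.le_of_succ_le h)).elim (exists_pairs_succ hA hq m hV h)

omit [IsLocalRing A] [Module.Free A V] [Module.Finite A V] in
/-- The planes and a vector of unit length orthogonal to them span. -/
theorem decomp [IsLocalRing A] [Module.Free A V] [Module.Finite A V] {m : ℕ} (P : Pairs q m)
    (hV : Module.finrank A V = 2 * m + 1) (e : V) (he : P.Perp m e) (hqe : IsUnit (q e)) :
    ∃ mu : V →ₗ[A] A, mu e = 1 ∧ (∀ x, mu (P.comb x) = 0) ∧ ∀ v, P.rest v = mu v • e := by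
  classical
  let b := finBasis' A V
  obtain ⟨i, hi⟩ : ∃ i, IsUnit (b.repr e i) := by
    by_contra hne
    push Not at hne
    refine (isUnit_iff_notMem _).mp hqe ?_
    rw [← b.sum_repr e, QuadraticMap.map_sum]
    refine add_mem (Submodule.sum_mem _ fun i _ => ?_) (Submodule.sum_mem _ fun p _ => ?_)
    · rw [QuadraticMap.map_smul, smul_eq_mul]
      exact Ideal.mul_mem_right _ _ (Ideal.mul_mem_left _ _ ((IsLocalRing.mem_maximalIdeal _).mpr (hne i)))
    · induction p using Sym2.ind with
      | h x y =>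
        simp only [Sym2.lift_mk, QuadraticMap.polarSym2_sym2Mk, QuadraticMap.polar_smul_left,
          QuadraticMap.polar_smul_right, Sym2.map_mk, smul_eq_mul]
        exact Ideal.mul_mem_right _ _ ((IsLocalRing.mem_maximalIdeal _).mpr (hne _))
  obtain ⟨u, hu⟩ := hi
  let mu : V →ₗ[A] A := (↑u⁻¹ : A) • (b.coord i).comp P.rest
  have hce : P.coef e = 0 := by
    funext j
    rw [P.coef_apply, (he j j.isLt).1, (he j j.isLt).2]; simp
  have hre : P.rest e = e := by simp [Pairs.rest, hce]
  have hmue : mu e = 1 := by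
    simp only [mu, LinearMap.smul_apply, LinearMap.comp_apply, hre, Module.Basis.coord_apply, ← hu, smul_eq_mul,
      u.inv_mul]
  have hmuc : ∀ x, mu (P.comb x) = 0 := fun x => by
    simp [mu, Pairs.rest, P.coef_comb]
  let psi : V →ₗ[A] (Fin m → A × A) × A := P.coef.prod mu
  have hpsi : ∀ x t, psi (P.comb x + t • e) = (x, t) := fun x t => by
    simp [psi, map_add, map_smul, P.coef_comb, hce, hmuc, hmue]
  obtain ⟨E⟩ : Nonempty (((Fin m → A × A) × A) ≃ₗ[A] V) := ⟨LinearEquiv.ofFinrankEq _ _ (by
    simp [Module.finrank_prod, Module.finrank_pi_fintype, hV, mul_comm])⟩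
  have hsurj : Function.Surjective psi := fun p => ⟨_, hpsi p.1 p.2⟩
  have hinj : Function.Injective psi := by
    have := OrzechProperty.injective_of_surjective_endomorphism (R := A) (E.toLinearMap.comp psi)
      (E.surjective.comp hsurj)
    exact fun x y h => this (by simp [h])
  refine ⟨mu, hmue, hmuc, fun v => ?_⟩
  have : psi v = psi (P.comb (P.coef v) + mu v • e) := by rw [hpsi]; rfl
  have hv := hinj this
  show v - P.comb (P.coef v) = _
  rw [sub_eq_iff_eq_add, add_comm]
  exact hv

end Groth.Agent.Lib.QuadGrp99.Cliff.Odd
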