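import Groth.Agent.Lib.QuadGrp99.Cliff.Odd.Local
import Mathlib.LinearAlgebra.CliffordAlgebra.EvenEquiv
import Mathlib.LinearAlgebra.ExteriorAlgebra.Basis
import Mathlib.LinearAlgebra.Matrix.ToLin
import Mathlib.RingTheory.OrzechProperty

/-!
# The spinor representation of hyperbolic forms
-/

open CliffordAlgebra TensorProduct

universe u

namespace Groth.Agent.Lib.QuadGrp99.Cliff.Odd

open Groth.Agent.Lib.QuadGrp99.Cliff

variable (R : Type u) [CommRing R] (m : ℕ)

/-- The hyperbolic form with a sign. -/
noncomputable def qh : QuadraticForm R ((Fin m → R) × (Fin m → R)) :=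
  -∑ i : Fin m, QuadraticMap.linMulLin ((LinearMap.proj i).comp (LinearMap.fst R _ _))
    ((LinearMap.proj i).comp (LinearMap.snd R _ _))

theorem qh_apply (v : (Fin m → R) × (Fin m → R)) : qh R m v = -∑ i, v.1 i * v.2 i := by
  simp [qh, QuadraticMap.sum_apply]

/-- The exterior algebra of the Lagrangian. -/
abbrev Spin₀ : Type u := CliffordAlgebra (0 : QuadraticForm R (Fin m → R))

/-- The functional of a vector. -/
noncomputable def dotL : (Fin m → R) →ₗ[R] Module.Dual R (Fin m → R) :=
  ((Pi.basisFun R (Fin m)).constr R).toLinearMap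

/-- The action of the vectors. -/
noncomputable def act : (Fin m → R) × (Fin m → R) →ₗ[R] Module.End R (Spin₀ R m) :=
  LinearMap.coprod
    (-((LinearMap.mul R (Spin₀ R m)).comp (ι (0 : QuadraticForm R (Fin m → R)))))
    ((contractLeft (Q := (0 : QuadraticForm R (Fin m → R)))).comp (dotL R m))

theorem act_apply (v : (Fin m → R) × (Fin m → R)) (x : Spin₀ R m) :
    act R m v x = -(ι (0 : QuadraticForm R (Fin m → R)) v.1 * x) + contractLeft (dotL R m v.2) x := rfl

/-- The spinor representation. -/
noncomputable def spinor : CliffordAlgebra (qh R m) →ₐ[R] Module.End R (Spin₀ R m) :=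
  CliffordAlgebra.lift (qh R m) ⟨act R m, fun v => by
    refine LinearMap.ext fun x => ?_
    rw [Module.End.mul_apply, Module.algebraMap_end_apply, act_apply, act_apply, qh_apply]
    rw [mul_add, mul_neg, ← mul_assoc, ι_sq_scalar, map_add, map_neg, contractLeft_ι_mul,
      contractLeft_contractLeft]
    have e : dotL R m v.2 v.1 = ∑ i, v.1 i * v.2 i := by simp [dotL]
    rw [e]
    simp [Algebra.smul_def]
    abel⟩

theorem spinor_ι (v : (Fin m → R) × (Fin m → R)) : spinor R m (ι (qh R m) v) = act R m v :=
  lift_ι_apply _ _ _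

/-- Left multiplication in the exterior algebra. -/
noncomputable abbrev mu (y : Spin₀ R m) : Module.End R (Spin₀ R m) := LinearMap.mulLeft R y

theorem mu_mem (y : Spin₀ R m) : mu R m y ∈ (spinor R m).range := by
  induction y using CliffordAlgebra.left_induction with
  | algebraMap r =>
    refine ⟨algebraMap R _ r, ?_⟩
    refine LinearMap.ext fun x => ?_
    rw [AlgHom.toRingHom_eq_coe, RingHom.coe_coe, AlgHom.commutes, Module.algebraMap_end_apply]
    simp [Algebra.smul_def]
  | add a b ha hb =>
    have e : mu R m (a + b) = mu R m a + mu R m b := LinearMap.ext fun x => add_mul a b x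
    rw [e]; exact add_mem ha hb
  | ι_mul z w hz =>
    have e : mu R m (ι _ w * z) = mu R m (ι _ w) * mu R m z := LinearMap.ext fun x => mul_assoc _ _ x
    rw [e]
    refine mul_mem ⟨ι (qh R m) (-w, 0), ?_⟩ hz
    refine LinearMap.ext fun x => ?_
    show spinor R m (ι (qh R m) (-w, 0)) x = ι _ w * x
    rw [spinor_ι, act_apply]
    simp

/-- The contraction operators. -/
noncomputable def cop (i : Fin m) : Module.End R (Spin₀ R m) :=
  contractLeft (Q := (0 : QuadraticForm R (Fin m → R))) ((Pi.basisFun R (Fin m)).coord i)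

/-- The multiplication operators. -/
noncomputable def mop (i : Fin m) : Module.End R (Spin₀ R m) := mu R m (ι _ (Pi.basisFun R (Fin m) i))

theorem cop_mem (i : Fin m) : cop R m i ∈ (spinor R m).range := by
  refine ⟨ι (qh R m) (0, Pi.single i 1), LinearMap.ext fun x => ?_⟩
  show spinor R m (ι (qh R m) (0, Pi.single i 1)) x = _
  rw [spinor_ι, act_apply]
  have e : dotL R m (Pi.single i 1) = (Pi.basisFun R (Fin m)).coord i := by
    refine (Pi.basisFun R (Fin m)).ext fun j => ?_
    simp only [dotL, LinearEquiv.coe_coe, Module.Basis.constr_basis, Module.Basis.coord_apply,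
      Module.Basis.repr_self, Finsupp.single_apply, Pi.single_apply, eq_comm]
  rw [e, map_zero, zero_mul, neg_zero, zero_add]
  rfl

theorem cop_mop (i j : Fin m) :
    cop R m i * mop R m j = (if i = j then 1 else 0) - mop R m j * cop R m i := by
  refine LinearMap.ext fun x => ?_
  show contractLeft _ (ι _ _ * x) = _
  rw [contractLeft_ι_mul]
  by_cases h : i = j
  · subst h; simp [cop, mop]
  · simp [cop, mop, h, Finsupp.single_apply, Ne.symm h]

theorem cop_cop (i j : Fin m) : cop R m i * cop R m j = -(cop R m j * cop R m i) :=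
  LinearMap.ext fun x => contractLeft_comm _ _ _

theorem cop_sq (i : Fin m) : cop R m i * cop R m i = 0 := LinearMap.ext fun x => contractLeft_contractLeft _ _

theorem mop_sq (i : Fin m) : mop R m i * mop R m i = 0 := LinearMap.ext fun x => by
  show ι _ _ * (ι _ _ * x) = _
  rw [← mul_assoc, ι_sq_scalar]; simp

/-- The projection killing the `i`-th vector. -/
noncomputable def pop (i : Fin m) : Module.End R (Spin₀ R m) := 1 - mop R m i * cop R m i

theorem cop_pop (i j : Fin m) :
    cop R m i * pop R m j = if i = j then 0 else pop R m j * cop R m i := by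
  unfold pop
  by_cases h : i = j
  · subst h
    rw [if_pos rfl, mul_sub, mul_one, ← mul_assoc, cop_mop, if_pos rfl, sub_mul, one_mul, mul_assoc, cop_sq,
      mul_zero, sub_zero, sub_self]
  · rw [if_neg h]
    refine LinearMap.ext fun x => ?_
    show cop R m i (x - mop R m j (cop R m j x)) = cop R m i x - mop R m j (cop R m j (cop R m i x))
    have h1 : cop R m i (mop R m j (cop R m j x)) = -(mop R m j (cop R m i (cop R m j x))) := by
      have := congrArg (fun f : Module.End R (Spin₀ R m) => f (cop R m j x)) (cop_mop R m i j)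
      simpa [h] using this
    have h2 : cop R m i (cop R m j x) = -(cop R m j (cop R m i x)) := contractLeft_comm _ _ _
    rw [map_sub, h1, h2, map_neg, neg_neg]

/-- The product of the first projections. -/
noncomputable def proj' : ℕ → Module.End R (Spin₀ R m)
  | 0 => 1
  | k + 1 => if h : k < m then pop R m ⟨k, h⟩ * proj' k else proj' k

theorem cop_proj' (i : Fin m) (k : ℕ) :
    cop R m i * proj' R m k = if (i : ℕ) < k then 0 else proj' R m k * cop R m i := by
  induction k with
  | zero => simp [proj']
  | succ k ih =>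
    by_cases hk : k < m
    · rw [proj', dif_pos hk, ← mul_assoc, cop_pop]
      by_cases hik : i = ⟨k, hk⟩
      · subst hik
        rw [if_pos rfl, zero_mul, if_pos (Nat.lt_succ_self k)]
      · have hne : (i : ℕ) ≠ k := fun h => hik (Fin.ext h)
        rw [if_neg hik, mul_assoc, ih]
        by_cases hlt : (i : ℕ) < k
        · rw [if_pos hlt, mul_zero, if_pos (Nat.lt_succ_of_lt hlt)]
        · rw [if_neg hlt, if_neg (by omega), ← mul_assoc]
    · rw [proj', dif_neg hk, ih, if_pos (show (i : ℕ) < k by have := i.2; omega),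
        if_pos (show (i : ℕ) < k + 1 by have := i.2; omega)]

theorem proj'_scalar (x : Spin₀ R m) :
    proj' R m m x ∈ Set.range (algebraMap R (Spin₀ R m)) := by
  refine ext_scalar (Pi.basisFun R (Fin m)) _ fun d => ?_
  have hd : d = ∑ i, d (Pi.basisFun R (Fin m) i) • (Pi.basisFun R (Fin m)).coord i :=
    ((Pi.basisFun R (Fin m)).sum_dual_apply_smul_coord d).symm
  rw [hd, map_sum, LinearMap.sum_apply]
  refine Finset.sum_eq_zero fun i _ => ?_
  rw [map_smul, LinearMap.smul_apply]
  have := congrArg (fun f : Module.End R (Spin₀ R m) => f x) (cop_proj' R m i m)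
  rw [if_pos i.2] at this
  rw [show contractLeft ((Pi.basisFun R (Fin m)).coord i) (proj' R m m x) = 0 from this, smul_zero]

theorem proj'_mem : ∀ k, proj' R m k ∈ (spinor R m).range
  | 0 => one_mem _
  | k + 1 => by
    rw [proj']
    split_ifs with h
    · exact mul_mem (sub_mem (one_mem _) (mul_mem (mu_mem R m _) (cop_mem R m _))) (proj'_mem k)
    · exact proj'_mem k

theorem mul_proj'_mem (f : Module.End R (Spin₀ R m)) : f ∈ (spinor R m).range := by
  suffices h : ∀ j, ∀ k, k + j = m → ∀ f, f * proj' R m k ∈ (spinor R m).range by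
    simpa [proj'] using h m 0 (zero_add m) f
  intro j
  induction j with
  | zero =>
    intro k hk f
    obtain rfl : k = m := by omega
    have e : f * proj' R k k = mu R k (f 1) * proj' R k k := LinearMap.ext fun x => by
      obtain ⟨a, ha⟩ := proj'_scalar R k x
      show f (proj' R k k x) = f 1 * proj' R k k x
      rw [← ha, Algebra.algebraMap_eq_smul_one, map_smul, mul_smul_comm, mul_one]
    rw [e]
    exact mul_mem (mu_mem R k _) (proj'_mem R k k)
  | succ j ih =>
    intro k hk f
    have hkm : k < m := by omega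
    have hp : proj' R m (k + 1) = pop R m ⟨k, hkm⟩ * proj' R m k := by rw [proj', dif_pos hkm]
    have e : f * proj' R m k = f * proj' R m (k + 1) +
        f * mop R m ⟨k, hkm⟩ * proj' R m (k + 1) * cop R m ⟨k, hkm⟩ := by
      have hc : cop R m ⟨k, hkm⟩ * proj' R m k = proj' R m k * cop R m ⟨k, hkm⟩ := by
        rw [cop_proj', if_neg (lt_irrefl _)]
      have hm' : mop R m ⟨k, hkm⟩ = mop R m ⟨k, hkm⟩ * pop R m ⟨k, hkm⟩ := by
        rw [pop, mul_sub, mul_one, ← mul_assoc, mop_sq, zero_mul, sub_zero]
      calc f * proj' R m k = f * (pop R m ⟨k, hkm⟩ + mop R m ⟨k, hkm⟩ * cop R m ⟨k, hkm⟩) * proj' R m k := by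
            rw [pop, sub_add_cancel, mul_one]
        _ = _ := by
            rw [hp, mul_add, add_mul]
            congr 1
            conv_lhs => rw [hm']
            simp only [mul_assoc, hc]
    rw [e]
    exact add_mem (ih (k + 1) (by omega) f) (mul_mem (ih (k + 1) (by omega) _) (cop_mem R m _))

/-- The Clifford algebra of a hyperbolic form is a matrix algebra. -/
theorem exists_spinor :
    Nonempty (CliffordAlgebra (qh R m) ≃ₐ[R] Matrix (Fin (2 ^ m)) (Fin (2 ^ m)) R) := by
  classical
  let bV : Module.Basis (Fin (m + m)) R ((Fin m → R) × (Fin m → R)) :=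
    ((Pi.basisFun R (Fin m)).prod (Pi.basisFun R (Fin m))).reindex finSumFinEquiv
  haveI := Module.Free.of_basis bV
  haveI := Module.Finite.of_basis bV
  let bC := bV.ExteriorAlgebra.map (toExt (qh R m)).symm
  let bS : Module.Basis (Finset (Fin m)) R (Spin₀ R m) := (Pi.basisFun R (Fin m)).ExteriorAlgebra
  let A := algEquivMatrix bS
  let T := ((Matrix.stdBasis R (Finset (Fin m)) (Finset (Fin m))).map A.symm.toLinearEquiv)
  have hcard : Fintype.card (Finset (Fin m) × Finset (Fin m)) = Fintype.card (Finset (Fin (m + m))) := by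
    simp [pow_add]
  let e : Module.End R (Spin₀ R m) ≃ₗ[R] CliffordAlgebra (qh R m) := T.equiv bC (Fintype.equivOfCardEq hcard)
  haveI : Module.Finite R (Module.End R (Spin₀ R m)) := Module.Finite.of_basis T
  have hsurj : Function.Surjective (spinor R m) := fun f => mul_proj'_mem R m f
  have hinj : Function.Injective (spinor R m) := fun x y hxy => by
    have := OrzechProperty.injective_of_surjective_endomorphism (R := R)
      ((spinor R m).toLinearMap.comp e.toLinearMap) (hsurj.comp e.surjective)
    obtain ⟨x', rfl⟩ := e.surjective x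
    obtain ⟨y', rfl⟩ := e.surjective y
    exact congrArg e (this hxy)
  refine ⟨(AlgEquiv.ofBijective (spinor R m) ⟨hinj, hsurj⟩).trans (A.trans
    (Matrix.reindexAlgEquiv R R (Fintype.equivFinOfCardEq (by simp))))⟩

end Groth.Agent.Lib.QuadGrp99.Cliff.Odd
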